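import Cfsg.Agent.H892.ElCount
import Cfsg.Agent.H469.Exc.Reg
import Cfsg.Agent.S1033

/-!
# Torus elements of order 11 conjugate to their cube are not regular

* `coe_TT` : the matrix of an element of `TT D k`;
* `sx_of_conj` : `g t g⁻¹ = t ^ 3`, `t ^ 11 = 1`, `5 ∤ nroots` : `t` centralises a root group;
* `sx_E8` : every `t ∈ TT chevE8 k`, `t ^ 11 = 1`, centralises a root group.
-/

set_option autoImplicit false
set_option linter.unusedSectionVars false

namespace Cfsg.Agent.H892.El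

open CoxeterSystem Cfsg Cfsg.Lie Cfsg.Lie.ChevalleyDatum
open Cfsg.Agent.ChevalleyStructure Cfsg.Agent.ChevalleyStructure.Elts Cfsg.Agent.ChevalleyStructure.CoxeterGeom
  Cfsg.Agent.ChevalleyStructure.CoxeterGeomTypes Cfsg.Agent.ChevalleyStructure.NPerm
open Cfsg.Agent.Tits.Roots Cfsg.Agent.Tits.Core Cfsg.Agent.Nodes Cfsg.Agent.Nodes.Reps Cfsg.Agent.Nodes.BNOf
  Cfsg.Agent.Nodes.RGDChev Cfsg.Agent.Nodes.Bruhat Cfsg.Agent.Nodes.NormalForm
open Cfsg.Agent.KFacts.RgdField Cfsg.Agent.KFacts.RgdChevCoord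
open Cfsg.Agent.BpExc Cfsg.Agent.BpExc.TorCent Cfsg.Agent.BpExc.TorChev Cfsg.Agent.BpExc.Tow
  Cfsg.Agent.BpExc.TowChev Cfsg.Agent.BpExc.Fr Cfsg.Agent.BpExc.Pair Cfsg.Agent.BpExc.LangFr Cfsg.Agent.GpExc.Field
open Cfsg.Agent.H469.Exc

universe u v

variable {D : ChevalleyDatum} {l : ℕ} {M : CoxeterMatrix (Fin l)} (hp : IsType D l M) {k : Type u} [Field k]
  {W : Type v} [Group W] (cs : CoxeterSystem M W)

/-- the entries of a torus element -/
noncomputable def dd (hp : IsType D l M) (t : ↥(D.group k)) : D.Idx → k :=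
  Sum.elim (fun _ => (1 : k)) (fun s : Fin D.nroots => ch hp (vec D l s) t)

/-- the property proved by induction -/
def MatEq (hp : IsType D l M) (t : ↥(D.group k)) : Prop :=
  ((t : GL D.Idx k) : Matrix D.Idx D.Idx k) = Matrix.diagonal (dd hp t)

theorem MatEq.hc (j : Fin l) {c : k} (hc0 : c ≠ 0) : MatEq hp (hc hp j c) := by
  show ((hG hp.inList (D.simple j) c : GL D.Idx k) : Matrix D.Idx D.Idx k) = _
  rw [coe_hG, S1033.result D hp.inList j (lt_rank hp j) c hc0]
  congr 1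
  funext i
  rcases i with i | s
  · rfl
  · show _ = ch hp (vec D l s) (Cfsg.Agent.KFacts.RgdChevCoord.hc hp j c)
    rw [ch_hc hp j hc0 s.2]
    rfl

theorem MatEq.one (hone : ∀ s : Fin D.nroots, ch hp (vec D l s) (1 : ↥(D.group k)) = 1) :
    MatEq hp (1 : ↥(D.group k)) := by
  unfold MatEq
  rw [Subgroup.coe_one, Units.val_one, ← Matrix.diagonal_one]
  congr 1
  funext i
  rcases i with i | s
  · rfl
  · exact (hone s).symm

theorem MatEq.mul {s t : ↥(D.group k)} (hs : MatEq hp s) (ht : MatEq hp t)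
    (hm : ∀ a : Fin D.nroots, ch hp (vec D l a) (s * t) = ch hp (vec D l a) s * ch hp (vec D l a) t) :
    MatEq hp (s * t) := by
  unfold MatEq at *
  rw [Subgroup.coe_mul, Units.val_mul, hs, ht, Matrix.diagonal_mul_diagonal]
  congr 1
  funext i
  rcases i with i | a
  · exact mul_one _
  · exact (hm a).symm

theorem MatEq.inv {s : ↥(D.group k)} (hs : MatEq hp s)
    (hm : ∀ a : Fin D.nroots, ch hp (vec D l a) s⁻¹ * ch hp (vec D l a) s = 1) : MatEq hp s⁻¹ := by
  unfold MatEq at *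
  have h2 : ((s : GL D.Idx k) : Matrix D.Idx D.Idx k) * (((s⁻¹ : ↥(D.group k)) : GL D.Idx k) : Matrix D.Idx D.Idx k) = 1 := by
    rw [← Units.val_mul, ← Subgroup.coe_mul, mul_inv_cancel, Subgroup.coe_one, Units.val_one]
  have h3 : Matrix.diagonal (dd hp s⁻¹) * Matrix.diagonal (dd hp s) = (1 : Matrix D.Idx D.Idx k) := by
    rw [Matrix.diagonal_mul_diagonal, ← Matrix.diagonal_one]
    congr 1
    funext i
    rcases i with i | a
    · exact mul_one _
    · exact hm a
  rw [hs] at h2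
  calc (((s⁻¹ : ↥(D.group k)) : GL D.Idx k) : Matrix D.Idx D.Idx k)
      = (Matrix.diagonal (dd hp s⁻¹) * Matrix.diagonal (dd hp s)) *
        (((s⁻¹ : ↥(D.group k)) : GL D.Idx k) : Matrix D.Idx D.Idx k) := by rw [h3, one_mul]
    _ = _ := by rw [mul_assoc, h2, mul_one]

/-- **The matrix of an element of the torus.** -/
theorem coe_TT {r : ℕ} [Fact r.Prime] [CharP k r] (hk : LocFin k) {t : ↥(D.group k)} (ht : t ∈ TT D k) :
    ((t : GL D.Idx k) : Matrix D.Idx D.Idx k) = Matrix.diagonal (dd hp t) := by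
  have C := coordsL (k := k) hp M.toCoxeterSystem hk r
  have hT : ∀ g ∈ Subgroup.closure {g | ∃ (j : Fin l) (c : k), c ≠ 0 ∧ g = Cfsg.Agent.KFacts.RgdChevCoord.hc hp j c}, g ∈ TT D k := by
    intro g hg
    refine (Subgroup.closure_le _).2 ?_ hg
    rintro _ ⟨j, c, hc0, rfl⟩
    exact hc_mem hp j hc0
  have hroot : ∀ s : Fin D.nroots, IsRoot M.toCoxeterSystem hp.isCartan (vec D l s) :=
    fun s => isRoot_vec hp _ s.2
  have hone : ∀ s : Fin D.nroots, ch hp (vec D l s) (1 : ↥(D.group k)) = 1 := by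
    intro s
    have h1 := (C.coord _ (hroot s)).chi_mul (one_mem (TT D k)) (one_mem _)
    rw [mul_one] at h1
    exact (mul_eq_left₀ ((C.coord _ (hroot s)).chi_ne_zero (one_mem _))).1 h1.symm
  have key : MatEq hp t := by
    refine Subgroup.closure_induction (p := fun t _ => MatEq hp t) ?_ ?_ ?_ ?_ (TT_le hp ht)
    · rintro _ ⟨j, c, hc0, rfl⟩
      exact MatEq.hc hp j hc0
    · exact MatEq.one hp hone
    · intro s t hs ht h1 h2
      exact MatEq.mul hp h1 h2 fun a => (C.coord _ (hroot a)).chi_mul (hT s hs) (hT t ht)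
    · intro s hs h1
      refine MatEq.inv hp h1 fun a => ?_
      rw [← (C.coord _ (hroot a)).chi_mul (inv_mem (hT s hs)) (hT s hs), inv_mul_cancel, hone]
  exact key

/-- **A torus element of order 11 conjugate to its cube is not regular, if `5 ∤ nroots`.** -/
theorem sx_of_conj {r : ℕ} [Fact r.Prime] [CharP k r] (hk : LocFin k) (h5 : ¬ 5 ∣ D.nroots) {t g : ↥(D.group k)}
    (ht : t ∈ TT D k) (ht11 : t ^ 11 = 1) (hg : g * t * g⁻¹ = t ^ 3) :
    (Sx cs hp.isCartan (ch hp) t).Nonempty := by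
  classical
  by_contra hcon
  have hne : ∀ s : Fin D.nroots, ch hp (vec D l s) t ≠ 1 := fun s hs => hcon ⟨_, isRoot_vec hp cs s.2, hs⟩
  have hpow : ∀ (n : ℕ) (i : D.Idx), dd hp (t ^ n) i = dd hp t i ^ n := by
    intro n i
    rcases i with i | s
    · exact (one_pow n).symm
    · exact ch_pow hp cs hk (r := r) (isRoot_vec hp cs s.2) ht n
  have h11 : ∀ i, dd hp t i ^ 11 = 1 := by
    intro i
    rw [← hpow, ht11]
    have := hpow 0 i
    rwa [pow_zero, pow_zero] at this
  have h3 : ((g : GL D.Idx k) : Matrix D.Idx D.Idx k) * Matrix.diagonal (dd hp t) *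
      (((g : GL D.Idx k)⁻¹ : GL D.Idx k) : Matrix D.Idx D.Idx k) = Matrix.diagonal fun i => dd hp t i ^ 3 := by
    have e1 : (((g * t * g⁻¹ : ↥(D.group k)) : GL D.Idx k) : Matrix D.Idx D.Idx k) =
        ((g : GL D.Idx k) : Matrix D.Idx D.Idx k) * Matrix.diagonal (dd hp t) *
      (((g : GL D.Idx k)⁻¹ : GL D.Idx k) : Matrix D.Idx D.Idx k) := by
      rw [Subgroup.coe_mul, Subgroup.coe_mul, Subgroup.coe_inv, Units.val_mul, Units.val_mul, coe_TT hp (r := r) hk ht]
    rw [← e1, hg, coe_TT hp (r := r) hk (pow_mem ht 3)]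
    congr 1
    funext i
    exact hpow 3 i
  have h4 := five_dvd (g : GL D.Idx k) h11 h3
  apply h5
  have h6 : (Finset.univ.filter fun i => dd hp t i ≠ 1) = (Finset.univ : Finset (Fin D.nroots)).map ⟨Sum.inr, Sum.inr_injective⟩ := by
    ext i
    rw [Finset.mem_filter, Finset.mem_map]
    constructor
    · rintro ⟨-, h⟩
      rcases i with i | s
      · exact absurd rfl h
      · exact ⟨s, Finset.mem_univ _, rfl⟩
    · rintro ⟨s, -, rfl⟩
      exact ⟨Finset.mem_univ _, hne s⟩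
  rwa [h6, Finset.card_map, Finset.card_univ, Fintype.card_fin] at h4

end Cfsg.Agent.H892.El
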