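import Mathlib

/-!
# Dimensions of fixed spaces of linear maps
-/

set_option autoImplicit false

namespace Cfsg.Agent.H892.FixDim

open Module

variable {K V : Type*} [Field K] [AddCommGroup V] [Module K V]

/-- the dimension of the fixed space of `f` -/
noncomputable def fx (f : V →ₗ[K] V) : ℕ := finrank K (LinearMap.ker (f - 1))

theorem mem_ker_sub_one {f : V →ₗ[K] V} {v : V} : v ∈ LinearMap.ker (f - 1) ↔ f v = v := by
  rw [LinearMap.mem_ker, LinearMap.sub_apply, Module.End.one_apply, sub_eq_zero]

/-- kernels and extension of the base field -/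
theorem finrank_ker_baseChange (K' : Type*) [Field K'] [Algebra K K'] (f : V →ₗ[K] V) :
    finrank K' (LinearMap.ker (f.baseChange K')) = finrank K (LinearMap.ker f) := by
  have h1 : Function.Exact (LinearMap.ker f).subtype f := by
    rw [LinearMap.exact_iff]
    simp
  have h2 : Function.Exact ((LinearMap.ker f).subtype.lTensor K') (f.lTensor K') :=
    Module.Flat.lTensor_exact K' h1
  have h3 : Function.Injective ((LinearMap.ker f).subtype.baseChange K') := by
    have := Module.Flat.lTensor_preserves_injective_linearMap (M := K') (LinearMap.ker f).subtype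
      (Submodule.injective_subtype _)
    exact this
  have h4 : LinearMap.ker (f.baseChange K') = LinearMap.range ((LinearMap.ker f).subtype.baseChange K') := by
    ext x
    constructor
    · intro hx
      have hx' : (f.lTensor K') x = 0 := hx
      obtain ⟨y, hy⟩ := (h2 x).1 hx'
      exact ⟨y, hy⟩
    · rintro ⟨y, rfl⟩
      exact (h2 _).2 ⟨y, rfl⟩
  rw [h4, LinearMap.finrank_range_of_inj h3, Module.finrank_baseChange]

theorem fx_baseChange (K' : Type*) [Field K'] [Algebra K K'] (f : V →ₗ[K] V) :
    fx (f.baseChange K') = fx f := by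
  have h : f.baseChange K' - 1 = (f - 1).baseChange K' := by
    rw [LinearMap.baseChange_sub]
    congr 1
    ext
    simp
  unfold fx
  rw [h, finrank_ker_baseChange]

section fd

variable [FiniteDimensional K V]

theorem finrank_ker_comp_le {V₂ V₃ : Type*} [AddCommGroup V₂] [Module K V₂] [FiniteDimensional K V₂]
    [AddCommGroup V₃] [Module K V₃] (g : V₂ →ₗ[K] V₃) (h : V →ₗ[K] V₂) :
    finrank K (LinearMap.ker (g ∘ₗ h)) ≤ finrank K (LinearMap.ker h) + finrank K (LinearMap.ker g) := by
  set φ : LinearMap.ker (g ∘ₗ h) →ₗ[K] V₂ := h ∘ₗ (LinearMap.ker (g ∘ₗ h)).subtype with hφ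
  have h1 := LinearMap.finrank_range_add_finrank_ker φ
  have h2 : finrank K (LinearMap.range φ) ≤ finrank K (LinearMap.ker g) := by
    apply Submodule.finrank_mono
    rintro _ ⟨x, rfl⟩
    exact x.2
  have h3 : finrank K (LinearMap.ker φ) ≤ finrank K (LinearMap.ker h) := by
    have : (LinearMap.ker φ).map (LinearMap.ker (g ∘ₗ h)).subtype ≤ LinearMap.ker h := by
      rintro _ ⟨x, hx, rfl⟩
      exact hx
    calc finrank K (LinearMap.ker φ)
        = finrank K ((LinearMap.ker φ).map (LinearMap.ker (g ∘ₗ h)).subtype) :=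
          (Submodule.finrank_map_subtype_eq _ _).symm
      _ ≤ _ := Submodule.finrank_mono this
  omega

theorem finrank_ker_pow_le (g : V →ₗ[K] V) (n : ℕ) :
    finrank K (LinearMap.ker (g ^ n)) ≤ n * finrank K (LinearMap.ker g) := by
  induction n with
  | zero =>
    rw [pow_zero, Module.End.one_eq_id, LinearMap.ker_id]
    simp
  | succ n ih =>
    rw [pow_succ']
    have := finrank_ker_comp_le g (g ^ n)
    have h2 : g * g ^ n = g ∘ₗ (g ^ n) := rfl
    rw [h2, Nat.succ_mul]
    omega

theorem finrank_le_of_pow_eq_zero {g : V →ₗ[K] V} {n : ℕ} (h : g ^ n = 0) :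
    finrank K V ≤ n * finrank K (LinearMap.ker g) := by
  have h1 := finrank_ker_pow_le g n
  rw [h, LinearMap.ker_zero, finrank_top] at h1
  exact h1

/-- an element of order `p` in characteristic `p` -/
theorem finrank_le_mul_fx {p : ℕ} [Fact p.Prime] [CharP K p] {f : V →ₗ[K] V} (h : f ^ p = 1) :
    finrank K V ≤ p * fx f := by
  apply finrank_le_of_pow_eq_zero
  have : CharP (V →ₗ[K] V) p ∨ Subsingleton V := by
    rcases subsingleton_or_nontrivial V with hV | hV
    · exact Or.inr hV
    · left
      have := charP_of_injective_algebraMap (algebraMap K (Module.End K V)).injective p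
      exact this
  rcases this with hc | hs
  · have hcom : Commute f 1 := Commute.one_right f
    have := sub_pow_char_of_commute (p := p) hcom
    rw [this, one_pow, h, sub_self]
  · ext v
    exact Subsingleton.elim _ _

theorem finrank_range_le_of_le_comap {V₂ : Type*} [AddCommGroup V₂] [Module K V₂] {φ : V →ₗ[K] V₂}
    {W : Submodule K V} : finrank K (W.map φ) ≤ finrank K W :=
  Submodule.finrank_map_le φ W

theorem fx_restrict_le (f : V →ₗ[K] V) (W : Submodule K V) (hW : ∀ w ∈ W, f w ∈ W) :
    fx (f.restrict hW) ≤ fx f := by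
  unfold fx
  rw [← Submodule.finrank_map_subtype_eq W (LinearMap.ker (f.restrict hW - 1))]
  apply Submodule.finrank_mono
  rintro _ ⟨x, hx, rfl⟩
  rw [SetLike.mem_coe, mem_ker_sub_one] at hx
  rw [mem_ker_sub_one]
  have := congrArg Subtype.val hx
  exact this

theorem fx_add_range (f : V →ₗ[K] V) : fx f + finrank K (LinearMap.range (f - 1)) = finrank K V := by
  rw [add_comm]
  exact LinearMap.finrank_range_add_finrank_ker (f - 1)

theorem fx_mapQ_le (f : V →ₗ[K] V) (W : Submodule K V) (hW : W ≤ W.comap f) :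
    fx (W.mapQ W f hW) ≤ fx f := by
  have h1 := fx_add_range f
  have h2 := fx_add_range (W.mapQ W f hW)
  have h3 := Submodule.finrank_quotient_add_finrank W
  -- the range of `f - 1` maps onto the range of the quotient map
  set R := LinearMap.range (f - 1) with hR
  have h4 : LinearMap.range (W.mapQ W f hW - 1) = R.map W.mkQ := by
    ext x
    constructor
    · rintro ⟨y, rfl⟩
      obtain ⟨v, rfl⟩ := W.mkQ_surjective y
      refine ⟨(f - 1) v, ⟨v, rfl⟩, ?_⟩
      simp
    · rintro ⟨_, ⟨v, rfl⟩, rfl⟩
      refine ⟨W.mkQ v, ?_⟩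
      simp
  set φ : R →ₗ[K] V ⧸ W := W.mkQ ∘ₗ R.subtype with hφ
  have h5 := LinearMap.finrank_range_add_finrank_ker φ
  have h6 : LinearMap.range φ = R.map W.mkQ := by
    rw [hφ, LinearMap.range_comp, Submodule.range_subtype]
  have h7 : finrank K (LinearMap.ker φ) ≤ finrank K W := by
    rw [← Submodule.finrank_map_subtype_eq R (LinearMap.ker φ)]
    apply Submodule.finrank_mono
    rintro _ ⟨x, hx, rfl⟩
    have : W.mkQ x = 0 := hx
    rwa [Submodule.mkQ_apply, Submodule.Quotient.mk_eq_zero] at this
  rw [h6, ← h4] at h5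
  omega

/-- Additivity for elements of order prime to the characteristic. -/
theorem fx_add {n : ℕ} (hn : (n : K) ≠ 0) (f : V →ₗ[K] V) (hf : f ^ n = 1) (W : Submodule K V)
    (hW : ∀ w ∈ W, f w ∈ W) :
    fx f = fx (f.restrict hW) + fx (W.mapQ W f hW) := by
  set φ : LinearMap.ker (f - 1) →ₗ[K] V ⧸ W := W.mkQ ∘ₗ (LinearMap.ker (f - 1)).subtype with hφ
  have h1 := LinearMap.finrank_range_add_finrank_ker φ
  have h2 : LinearMap.range φ = LinearMap.ker (W.mapQ W f hW - 1) := by
    apply le_antisymm
    · rintro _ ⟨⟨x, hx⟩, rfl⟩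
      rw [mem_ker_sub_one] at hx ⊢
      change W.mapQ W f hW (W.mkQ x) = W.mkQ x
      rw [Submodule.mkQ_apply, Submodule.mapQ_apply, hx]
    · intro x hx
      obtain ⟨v, rfl⟩ := W.mkQ_surjective x
      rw [mem_ker_sub_one] at hx
      have hpow : ∀ k : ℕ, W.mkQ ((f ^ k) v) = W.mkQ v := by
        intro k
        induction k with
        | zero => simp
        | succ k ih =>
          rw [pow_succ', Module.End.mul_apply]
          have : W.mkQ (f ((f ^ k) v)) = W.mapQ W f hW (W.mkQ ((f ^ k) v)) := by
            rw [Submodule.mkQ_apply, Submodule.mkQ_apply, Submodule.mapQ_apply]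
          rw [this, ih, hx]
      have hs : f (∑ k ∈ Finset.range n, (f ^ k) v) = ∑ k ∈ Finset.range n, (f ^ k) v := by
        rw [map_sum]
        have h3 : ∀ k, f ((f ^ k) v) = (f ^ (k + 1)) v := fun k => by rw [pow_succ', Module.End.mul_apply]
        simp only [h3]
        have h4 := Finset.sum_range_succ (fun k => (f ^ k) v) n
        rw [Finset.sum_range_succ', hf] at h4
        simpa using h4
      refine ⟨⟨(n : K)⁻¹ • ∑ k ∈ Finset.range n, (f ^ k) v, ?_⟩, ?_⟩
      · rw [mem_ker_sub_one, map_smul, hs]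
      · change W.mkQ ((n : K)⁻¹ • ∑ k ∈ Finset.range n, (f ^ k) v) = W.mkQ v
        rw [map_smul, map_sum, Finset.sum_congr rfl fun k _ => hpow k, Finset.sum_const,
          Finset.card_range, ← Nat.cast_smul_eq_nsmul K, smul_smul, inv_mul_cancel₀ hn, one_smul]
  have h3 : finrank K (LinearMap.ker φ) = fx (f.restrict hW) := by
    unfold fx
    rw [← Submodule.finrank_map_subtype_eq (LinearMap.ker (f - 1)) (LinearMap.ker φ),
      ← Submodule.finrank_map_subtype_eq W (LinearMap.ker (f.restrict hW - 1))]
    suffices hs : (LinearMap.ker φ).map (LinearMap.ker (f - 1)).subtype =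
        (LinearMap.ker (f.restrict hW - 1)).map W.subtype by rw [hs]
    ext x
    constructor
    · rintro ⟨⟨y, hy⟩, hy', rfl⟩
      have hyW : y ∈ W := by
        have : W.mkQ y = 0 := hy'
        rwa [Submodule.mkQ_apply, Submodule.Quotient.mk_eq_zero] at this
      refine ⟨⟨y, hyW⟩, ?_, rfl⟩
      rw [SetLike.mem_coe, mem_ker_sub_one]
      rw [mem_ker_sub_one] at hy
      exact Subtype.ext hy
    · rintro ⟨⟨y, hy⟩, hy', rfl⟩
      rw [SetLike.mem_coe, mem_ker_sub_one] at hy'
      have hfy : f y = y := congrArg Subtype.val hy'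
      refine ⟨⟨y, mem_ker_sub_one.2 hfy⟩, ?_, rfl⟩
      change W.mkQ y = 0
      rwa [Submodule.mkQ_apply, Submodule.Quotient.mk_eq_zero]
  rw [h2, h3] at h1
  unfold fx at *
  omega

omit [FiniteDimensional K V] in
theorem fx_one : fx (1 : V →ₗ[K] V) = finrank K V := by
  unfold fx
  rw [sub_self, LinearMap.ker_zero, finrank_top]

omit [FiniteDimensional K V] in
/-- conjugate maps have the same fixed dimension -/
theorem fx_conj (f g g' : V →ₗ[K] V) (h : g * g' = 1) (h' : g' * g = 1) : fx (g * f * g') = fx f := by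
  let e : V ≃ₗ[K] V := LinearEquiv.ofLinearMap g g' h h'
  unfold fx
  rw [← LinearEquiv.finrank_map_eq e (LinearMap.ker (f - 1))]
  suffices hs : LinearMap.ker (g * f * g' - 1) =
      (LinearMap.ker (f - 1)).map (e : V →ₗ[K] V) by rw [hs]
  ext x
  constructor
  · intro hx
    rw [mem_ker_sub_one] at hx
    refine ⟨g' x, ?_, ?_⟩
    · rw [SetLike.mem_coe, mem_ker_sub_one]
      have h3 : g' ((g * f * g') x) = g' x := by rw [hx]
      rw [Module.End.mul_apply, Module.End.mul_apply] at h3
      have h4 : g' (g (f (g' x))) = (g' * g) (f (g' x)) := rfl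
      rw [h4, h', Module.End.one_apply] at h3
      exact h3
    · change (g * g') x = x
      rw [h, Module.End.one_apply]
  · rintro ⟨y, hy, rfl⟩
    rw [SetLike.mem_coe, mem_ker_sub_one] at hy
    rw [mem_ker_sub_one]
    change g (f (g' (g y))) = g y
    have h4 : g' (g y) = (g' * g) y := rfl
    rw [h4, h', Module.End.one_apply, hy]

/-- the transpose has the same fixed dimension -/
theorem fx_dualMap (f : V →ₗ[K] V) : fx (f.dualMap) = fx f := by
  have h1 := fx_add_range f
  have h2 := fx_add_range f.dualMap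
  rw [Subspace.dual_finrank_eq] at h2
  have h3 : f.dualMap - 1 = (f - 1).dualMap := by
    ext φ v
    simp
  have h4 := LinearMap.finrank_range_dualMap_eq_finrank_range (f - 1)
  rw [h3, h4] at h2
  omega

end fd

end Cfsg.Agent.H892.FixDim
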