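import Cfsg.Agent.H892.TExcE
import Cfsg.Agent.H892.TExcS
import Cfsg.Agent.H892.TExcF

/-!
# S3537: `E₆`, `²E₆`, Suzuki, Ree, `²F₄`, Tits

`TExc.e6`, `TExc.te6`, `TExc.sz`, `TExc.ree`, `TExc.tf4`, `TExc.tits` : `T4 p q S → IsNamed (.x u) S → False`
(proved in `TExcE`, `TExcS`, `TExcF`).
-/
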