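import Cfsg.Agent.H892.TNumE8
import Cfsg.Agent.H129.CycExc
import Cfsg.Agent.H129.TwD4Cyc
import Cfsg.Agent.H378.TwRows
import Cfsg.Agent.H436.Names

/-!
# S3537: `G₂`, `F₄`, `³D₄`, `E₇`, `E₈`

`T4.g2`, `T4.f4`, `T4.td4`, `T4.e7`, `T4.e8` : `T4 p q S → IsNamed (.x u) S → False`.
-/

set_option autoImplicit false
set_option linter.unusedSectionVars false

namespace Cfsg.Agent.H892.TExc

open Cfsg Cfsg.Lie Subgroup
open Cfsg.Agent.H202.T Cfsg.Agent.H436 Cfsg.Agent.OrdDiv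
open Cfsg.Agent.H129 Cfsg.Agent.H129.CycT Cfsg.Agent.H129.WData
open Cfsg.Agent.H378 Cfsg.Agent.H378.ExcAdj Cfsg.Agent.H378.CycTab Cfsg.Agent.H378.ExcNear Cfsg.Agent.H378.RegFin
  Cfsg.Agent.H378.AdjTab

universe u

variable {p q : ℕ}

theorem pp {S : Type*} [Group S] (h : T4 p q S) : PP p q := ⟨h.prime, h.ne_two, h.pow⟩

/-- **A cyclic subgroup containing the centralisers of its elements of order `r` has order `mm q`.** -/
theorem eq_of_T {G : Type*} [Group G] [Finite G] (h : T4 p q G) {T : Subgroup G} (hc : IsCyclic ↥T) {N r : ℕ}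
    (hN : Nat.card ↥T = N) (hr : r.Prime) (hrm : r ∣ mm q) (hrN : r ∣ N)
    (hcent : ∀ y ∈ T, orderOf y = r → Subgroup.centralizer {y} ≤ T) : N = mm q := by
  obtain ⟨t, ht⟩ := IsCyclic.exists_ofOrder_eq_natCard (α := ↥T)
  have ht' : orderOf (t : G) = N := by rw [Subgroup.orderOf_coe, ht, hN]
  apply Nat.dvd_antisymm
  · rw [← ht']
    exact h.iso hr hrm (by rw [ht']; exact hrN)
  · obtain ⟨y, hy⟩ := h.mem
    obtain ⟨a, ha⟩ := hrm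
    have ha0 : a ≠ 0 := by
      rintro rfl
      have := forty_one_le h.three_le
      omega
    have hx : orderOf (y ^ a) = r := by
      rw [orderOf_pow_of_dvd ha0 (by rw [hy, ha]; exact Dvd.intro_left _ rfl), hy, ha,
        Nat.mul_div_cancel _ (Nat.pos_of_ne_zero ha0)]
    obtain ⟨g, -, hg⟩ := centralizer_conj hc hr (by rw [hN]; exact hrN) hcent hx
    have h1 : g * y * g⁻¹ ∈ T := (hg y).1 (by
      rw [Subgroup.mem_centralizer_singleton_iff]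
      exact (Commute.refl y).pow_right a)
    have h2 : orderOf (g * y * g⁻¹) = orderOf y := orderOf_injective (MulAut.conj g).toMonoidHom (MulAut.conj g).injective y
    rw [← hy, ← h2, ← hN]
    have h3 := orderOf_dvd_natCard (⟨_, h1⟩ : ↥T)
    rwa [Subgroup.orderOf_mk] at h3

theorem eq_of_exact {G : Type*} [Group G] [Finite G] (h : T4 p q G) {N r : ℕ} (hr : r.Prime) (hrm : r ∣ mm q)
    (hrN : r ∣ N) (hC : CycExact G N) : N = mm q := by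
  obtain ⟨T, h1, h2, h3⟩ := hC
  refine eq_of_T h h1 h2 hr hrm hrN fun y hy hyr => (h3 y hy ?_).le
  rintro rfl
  rw [orderOf_one] at hyr
  exact hr.one_lt.ne hyr

/-- a prime divisor of `mm q` -/
theorem exists_r {G : Type*} [Group G] [Finite G] (h : T4 p q G) : ∃ r : ℕ, r.Prime ∧ r ∣ mm q ∧ r ∣ Nat.card G ∧
    r % 8 = 1 ∧ ¬ H564.NearTwo.Near G r := by
  obtain ⟨r, hr, hrm⟩ := exists_prime_mm h.three_le
  exact ⟨r, hr, hrm, hrm.trans h.dvd_card, mod_eight h.odd hr hrm, h.not_near hrm⟩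

variable {F : Type u} [Field F] [Fintype F]

/-- the two tori of `G₂` -/
theorem T_G2_3 {u N : ℕ} (hq : Fintype.card F = u) (hN : (N : ℤ) = 1 + (u : ℤ) + (u : ℤ) ^ 2) {r : ℕ} (hr : r.Prime)
    (hrN : r ∣ N) (hr3 : r ≠ 3) : ∃ T : Subgroup ↥(chevG2.group F), IsCyclic ↥T ∧ Nat.card ↥T = N ∧
      ∀ y ∈ T, orderOf y = r → Subgroup.centralizer {y} ≤ T := by
  have : Finite CoxeterMatrix.G₂.Group := Nat.finite_of_card_ne_zero (by rw [cardW_G2]; norm_num)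
  obtain ⟨T, h1, h2, h3, h4, -⟩ := UntwT.untw_T typeG2 CoxeterMatrix.G₂.toCoxeterSystem (by norm_num) hq
    TorusChar.invC_G2 one_ne_zero DataG2.hA DataG2.chainOK DataG2.cycOK DataG2.rootOK (by rw [DataG2.fN_eq, hN])
    (UntwData.coprime_of_eq (a := 1 + (u : ℤ)) (by rw [hN]; ring)) (d := 1) (Or.inl rfl)
  exact ⟨T, h1, Nat.dvd_antisymm h2 (by rwa [one_mul] at h3), h4 r hr (good_G2_3 hN hr hrN hr3).1 (good_G2_3 hN hr hrN hr3).2⟩

theorem T_G2_6 {u N : ℕ} (hq : Fintype.card F = u) (hN : (N : ℤ) = 1 - (u : ℤ) + (u : ℤ) ^ 2) {r : ℕ} (hr : r.Prime)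
    (hrN : r ∣ N) (hr3 : r ≠ 3) : ∃ T : Subgroup ↥(chevG2.group F), IsCyclic ↥T ∧ Nat.card ↥T = N ∧
      ∀ y ∈ T, orderOf y = r → Subgroup.centralizer {y} ≤ T := by
  have : Finite CoxeterMatrix.G₂.Group := Nat.finite_of_card_ne_zero (by rw [cardW_G2]; norm_num)
  obtain ⟨T, h1, h2, h3, h4, -⟩ := UntwT.untw_T typeG2 CoxeterMatrix.G₂.toCoxeterSystem (by norm_num) hq
    TorusChar.invC_G2 one_ne_zero DataG2h.hA DataG2h.chainOK DataG2h.cycOK DataG2h.rootOK (by rw [DataG2h.fN_eq, hN])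
    (UntwData.coprime_of_eq (a := -1 + (u : ℤ)) (by rw [hN]; ring)) (d := 1) (Or.inl rfl)
  exact ⟨T, h1, Nat.dvd_antisymm h2 (by rwa [one_mul] at h3), h4 r hr (good_G2_6 hN hr hrN hr3).1 (good_G2_6 hN hr hrN hr3).2⟩

theorem T_F4_8 {u N : ℕ} (hq : Fintype.card F = u) (hN : (N : ℤ) = 1 + (u : ℤ) ^ 4) {r : ℕ} (hr : r.Prime)
    (hrN : r ∣ N) (hr2 : r ≠ 2) : ∃ T : Subgroup ↥(chevF4.group F), IsCyclic ↥T ∧ Nat.card ↥T = N ∧
      ∀ y ∈ T, orderOf y = r → Subgroup.centralizer {y} ≤ T := by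
  have : Finite CoxeterMatrix.F₄.Group := Nat.finite_of_card_ne_zero (by rw [cardW_F4]; norm_num)
  obtain ⟨T, h1, h2, h3, h4, -⟩ := UntwT.untw_T typeF4 CoxeterMatrix.F₄.toCoxeterSystem (by norm_num) hq
    TorusChar.invC_F4 one_ne_zero DataF4.hA DataF4.chainOK DataF4.cycOK DataF4.rootOK (by rw [DataF4.fN_eq, hN])
    (UntwData.coprime_of_eq (a := (u : ℤ) ^ 3) (by rw [hN]; ring)) (d := 1) (Or.inl rfl)
  exact ⟨T, h1, Nat.dvd_antisymm h2 (by rwa [one_mul] at h3), h4 r hr (good_F4_8 hN hr hrN hr2).1 (good_F4_8 hN hr hrN hr2).2⟩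

theorem T_E8_20 {u N : ℕ} (hq : Fintype.card F = u)
    (hN : (N : ℤ) = 1 - (u : ℤ) ^ 2 + (u : ℤ) ^ 4 - (u : ℤ) ^ 6 + (u : ℤ) ^ 8) {r : ℕ} (hr : r.Prime)
    (hrN : r ∣ N) (hr5 : r ≠ 5) : ∃ T : Subgroup ↥(chevE8.group F), IsCyclic ↥T ∧ Nat.card ↥T = N ∧
      ∀ y ∈ T, orderOf y = r → Subgroup.centralizer {y} ≤ T := by
  have := finite_W8
  obtain ⟨T, h1, h2, h3, h4, -⟩ := UntwT.untw_T typeE8 CoxeterMatrix.E₈.toCoxeterSystem (by norm_num) hq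
    TorusChar.invC_E8 one_ne_zero DataE8b.hA DataE8b.chainOK DataE8b.cycOK DataE8b.rootOK (by rw [DataE8b.fN_eq, hN])
    (UntwData.coprime_of_eq (a := -(u : ℤ) + (u : ℤ) ^ 3 - (u : ℤ) ^ 5 + (u : ℤ) ^ 7) (by rw [hN]; ring)) (d := 1)
    (Or.inl rfl)
  exact ⟨T, h1, Nat.dvd_antisymm h2 (by rwa [one_mul] at h3), h4 r hr (good_E8_20 hN hr hrN hr5).1 (good_E8_20 hN hr hrN hr5).2⟩

/-! ### the groups -/

theorem nat_dvd {r N : ℕ} {z : ℤ} (hN : (N : ℤ) = z) (h : (r : ℤ) ∣ z) : r ∣ N := by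
  rw [← hN] at h
  exact Int.natCast_dvd_natCast.1 h

theorem g2_core {u : ℕ} (hF : Fintype.card F = u) (hu : IsPrimePow u) (h : T4 p q ↥(chevG2.group F)) : False := by
  obtain ⟨r, hr, hrm, hrd, hr8, hn⟩ := exists_r h
  have hFN : Nat.card F = u := by rw [Nat.card_eq_fintype_card, hF]
  have hr3 : r ≠ 3 := by rintro rfl; omega
  have h4 := two_mm h.odd
  rcases (near_G2 F hr hrd).resolve_left hn with ho | ho
  · have h1 := dvd3 hr ho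
    rw [pv3, hFN] at h1
    have hN : ((u ^ 2 + u + 1 : ℕ) : ℤ) = 1 + (u : ℤ) + (u : ℤ) ^ 2 := by push_cast; ring
    have hrN : r ∣ u ^ 2 + u + 1 := nat_dvd hN (by
      have e : 1 + (u : ℤ) + (u : ℤ) ^ 2 = (u : ℤ) ^ 2 + u + 1 := by ring
      rw [e]; exact h1)
    obtain ⟨T, hT1, hT2, hT3⟩ := T_G2_3 hF hN hr hrN hr3
    have h5 := eq_of_T h hT1 hT2 hr hrm hrN hT3
    refine no_pyth hu (q := q) ?_
    rw [← h5] at h4
    nlinarith
  · have h1 := dvd6 hr ho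
    rw [pv6, hFN] at h1
    have hle : u ≤ u ^ 2 := Nat.le_self_pow (by norm_num) _
    have hN : ((u ^ 2 - u + 1 : ℕ) : ℤ) = 1 - (u : ℤ) + (u : ℤ) ^ 2 := by
      push_cast [Nat.cast_sub hle]; ring
    have hrN : r ∣ u ^ 2 - u + 1 := nat_dvd hN (by
      have e : 1 - (u : ℤ) + (u : ℤ) ^ 2 = (u : ℤ) ^ 2 - u + 1 := by ring
      rw [e]; exact h1)
    obtain ⟨T, hT1, hT2, hT3⟩ := T_G2_6 hF hN hr hrN hr3
    have h5 := eq_of_T h hT1 hT2 hr hrm hrN hT3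
    refine no_pyth' hu (q := q) ?_
    rw [← h5] at h4
    omega

theorem sq_prime_pow {u : ℕ} (hu : IsPrimePow u) {n : ℕ} (hn : n ≠ 0) : IsPrimePow (u ^ n) := hu.pow hn

/-- `Φ₁₂(u) = mm q` is impossible -/
theorem no_twelve {u : ℕ} (hu : IsPrimePow u) (hq : Odd q) (h : u ^ 4 - u ^ 2 + 1 = mm q) : False := by
  have h4 := two_mm hq
  have hle : u ^ 2 ≤ u ^ 4 := Nat.pow_le_pow_right hu.pos (by norm_num)
  refine no_pyth' (sq_prime_pow hu two_ne_zero) (q := q) ?_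
  rw [← h] at h4
  have e : (u ^ 2) ^ 2 = u ^ 4 := by ring
  rw [e]
  omega

theorem f4_core {u : ℕ} (hF : Fintype.card F = u) (hu : IsPrimePow u) (h : T4 p q ↥(chevF4.group F)) : False := by
  obtain ⟨r, hr, hrm, hrd, hr8, hn⟩ := exists_r h
  have hFN : Nat.card F = u := by rw [Nat.card_eq_fintype_card, hF]
  have hr2 : r ≠ 2 := by rintro rfl; omega
  have h4 := two_mm h.odd
  rcases (near_F4 F hr hrd).resolve_left hn with ho | ho
  · have h1 := dvd8 hr ho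
    rw [pv8, hFN] at h1
    have hN : ((u ^ 4 + 1 : ℕ) : ℤ) = 1 + (u : ℤ) ^ 4 := by push_cast; ring
    have hrN : r ∣ u ^ 4 + 1 := nat_dvd hN (by rw [add_comm]; exact h1)
    obtain ⟨T, hT1, hT2, hT3⟩ := T_F4_8 hF hN hr hrN hr2
    have h5 := eq_of_T h hT1 hT2 hr hrm hrN hT3
    refine two_pow hu ?_ (q := q) (by rw [← h5] at h4; omega)
    have h6 := mm_mod h.odd
    rw [← h5] at h6
    have h7 : 2 ∣ u ^ 4 := by omega
    exact Nat.prime_two.dvd_of_dvd_pow h7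
  · have h1 := dvd12 hr ho
    rw [pv12, hFN] at h1
    have hle : u ^ 2 ≤ u ^ 4 := Nat.pow_le_pow_right hu.pos (by norm_num)
    have hN : ((u ^ 4 - u ^ 2 + 1 : ℕ) : ℤ) = 1 - (u : ℤ) ^ 2 + (u : ℤ) ^ 4 := by
      push_cast [Nat.cast_sub hle]; ring
    have hrN : r ∣ u ^ 4 - u ^ 2 + 1 := nat_dvd hN (by
      have e : 1 - (u : ℤ) ^ 2 + (u : ℤ) ^ 4 = (u : ℤ) ^ 4 - u ^ 2 + 1 := by ring
      rw [e]; exact h1)
    exact no_twelve hu h.odd (eq_of_exact h hr hrm hrN (exact_F4_12 hF hN))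

theorem td4_core {u : ℕ} (hF : Fintype.card F = u ^ 3) (hu : IsPrimePow u) (h : T4 p q ↥(twistedD4 F u)) : False := by
  obtain ⟨r, hr, hrm, hrd, hr8, hn⟩ := exists_r h
  have ho := (TwRows.near_3D4 hu hF hr hrd).resolve_left hn
  have h1 := dvd12 hr ho
  rw [pv12] at h1
  have hle : u ^ 2 ≤ u ^ 4 := Nat.pow_le_pow_right hu.pos (by norm_num)
  have hN : ((u ^ 4 - u ^ 2 + 1 : ℕ) : ℤ) = (u : ℤ) ^ 4 - (u : ℤ) ^ 2 + 1 := by
    push_cast [Nat.cast_sub hle]; ring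
  have hrN : r ∣ u ^ 4 - u ^ 2 + 1 := nat_dvd hN h1
  obtain ⟨T, hT1, hT2, hT3⟩ := TwD4Cyc.coxeter_torus hu hF
  refine no_twelve hu h.odd (eq_of_T h hT1 hT2 hr hrm hrN fun y hy hyr => ?_)
  -- the centraliser is abelian
  obtain ⟨hab, -⟩ := TwRows.cent_3D4 hu hF hr hyr ho
  intro z hz
  rw [Subgroup.mem_centralizer_singleton_iff] at hz
  rw [← hT3, Subgroup.mem_centralizer_iff]
  intro t ht
  have h2 : Commute t y := by
    have := le_centralizer_of_cyclic hT1 hy ht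
    rwa [Subgroup.mem_centralizer_singleton_iff] at this
  exact hab t z h2 hz

theorem e7_core {u : ℕ} (hF : Fintype.card F = u) (h : T4 p q ↥(chevE7.group F)) : False := by
  obtain ⟨r, hr, hrm, hrd, hr8, hn⟩ := exists_r h
  have hFN : Nat.card F = u := by rw [Nat.card_eq_fintype_card, hF]
  have hu2 : 2 ≤ u := by rw [← hF]; exact Fintype.one_lt_card
  have h4 := two_mm h.odd
  obtain ⟨hu3, ho⟩ := (near_E7 F hr hrd).resolve_left hn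
  rw [hFN] at hu3
  rcases ho with ho | ho
  · have h1 := dvd7 hr ho
    rw [pv7, hFN] at h1
    have hN : ((u ^ 6 + u ^ 5 + u ^ 4 + u ^ 3 + u ^ 2 + u + 1 : ℕ) : ℤ) =
        1 + (u : ℤ) + (u : ℤ) ^ 2 + (u : ℤ) ^ 3 + (u : ℤ) ^ 4 + (u : ℤ) ^ 5 + (u : ℤ) ^ 6 := by push_cast; ring
    have hrN : r ∣ u ^ 6 + u ^ 5 + u ^ 4 + u ^ 3 + u ^ 2 + u + 1 := nat_dvd hN (by
      have e : 1 + (u : ℤ) + (u : ℤ) ^ 2 + (u : ℤ) ^ 3 + (u : ℤ) ^ 4 + (u : ℤ) ^ 5 + (u : ℤ) ^ 6 =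
        (u : ℤ) ^ 6 + (u : ℤ) ^ 5 + (u : ℤ) ^ 4 + (u : ℤ) ^ 3 + (u : ℤ) ^ 2 + u + 1 := by ring
      rw [e]; exact h1)
    have h5 := eq_of_exact h hr hrm hrN (exact_E7_7 hF hu3 hN)
    rw [← h5] at h4
    interval_cases u
    · exact fourth (q := q) (K := 253) 3 (by norm_num at h4; omega) (by norm_num) (by norm_num)
    · exact fourth (q := q) (K := 2185) 6 (by norm_num at h4; omega) (by norm_num) (by norm_num)
  · have h1 := dvd9 hr ho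
    rw [pv9, hFN] at h1
    have hN : ((u ^ 6 + u ^ 3 + 1 : ℕ) : ℤ) = 1 + (u : ℤ) ^ 3 + (u : ℤ) ^ 6 := by push_cast; ring
    have hrN : r ∣ u ^ 6 + u ^ 3 + 1 := nat_dvd hN (by
      have e : 1 + (u : ℤ) ^ 3 + (u : ℤ) ^ 6 = (u : ℤ) ^ 6 + (u : ℤ) ^ 3 + 1 := by ring
      rw [e]; exact h1)
    have h5 := eq_of_exact h hr hrm hrN (exact_E7_9 hF hu3 hN)
    rw [← h5] at h4
    interval_cases u
    · exact fourth (q := q) (K := 145) 3 (by norm_num at h4; omega) (by norm_num) (by norm_num)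
    · exact fourth (q := q) (K := 1513) 6 (by norm_num at h4; omega) (by norm_num) (by norm_num)

theorem exists_of_exact {G : Type*} [Group G] {N : ℕ} (h : CycExact G N) : ∃ x : G, orderOf x = N := by
  obtain ⟨T, h1, h2, -⟩ := h
  obtain ⟨t, ht⟩ := IsCyclic.exists_ofOrder_eq_natCard (α := ↥T)
  exact ⟨t, by rw [Subgroup.orderOf_coe, ht, h2]⟩

theorem e8_core {u : ℕ} (hF : Fintype.card F = u) (h : T4 p q ↥(chevE8.group F)) : False := by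
  obtain ⟨r, hr, hrm, hrd, hr8, hn⟩ := exists_r h
  have hFN : Nat.card F = u := by rw [Nat.card_eq_fintype_card, hF]
  have hu2 : 2 ≤ u := by rw [← hF]; exact Fintype.one_lt_card
  have hr5 : r ≠ 5 := by rintro rfl; omega
  -- elements of order `Φ₃₀(u)` and `Φ₁₅(u)`
  have q2 : (2 : ℤ) ≤ u := by exact_mod_cast hu2
  have p2 : (4 : ℤ) ≤ (u : ℤ) ^ 2 := by nlinarith
  have p3 : (8 : ℤ) ≤ (u : ℤ) ^ 3 := by nlinarith [pow_succ (u : ℤ) 2]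
  have p4 : (16 : ℤ) ≤ (u : ℤ) ^ 4 := by nlinarith [pow_succ (u : ℤ) 3]
  have p5 : (32 : ℤ) ≤ (u : ℤ) ^ 5 := by nlinarith [pow_succ (u : ℤ) 4]
  have p7 : 2 * (u : ℤ) ^ 5 ≤ (u : ℤ) ^ 7 := by nlinarith [pow_succ (u : ℤ) 6, pow_succ (u : ℤ) 5]
  obtain ⟨N30, hN30⟩ : ∃ N : ℕ, (N : ℤ) = P30 u := by
    refine CycExc.exists_nat ?_
    unfold P30
    nlinarith [pow_succ (u : ℤ) 7, pow_succ (u : ℤ) 6, pow_succ (u : ℤ) 5, pow_succ (u : ℤ) 4, pow_succ (u : ℤ) 3]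
  obtain ⟨N15, hN15⟩ : ∃ N : ℕ, (N : ℤ) = P15 u := by
    refine CycExc.exists_nat ?_
    have e : P15 (u : ℤ) = 1 + u * (u ^ 2 - 1) + u ^ 4 * (u - 1) + u ^ 4 * (u ^ 3 * (u - 1)) := by unfold P15; ring
    rw [e]
    have h5 : 0 ≤ (u : ℤ) * (u ^ 2 - 1) := mul_nonneg (by linarith) (by linarith)
    have h6 : 0 ≤ (u : ℤ) ^ 4 * (u - 1) := mul_nonneg (by linarith) (by linarith)
    have h7 : 0 ≤ (u : ℤ) ^ 4 * (u ^ 3 * (u - 1)) := mul_nonneg (by linarith) (mul_nonneg (by linarith) (by linarith))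
    linarith
  have e30 := exact_E8_30 hF hN30
  have e15 := exact_E8_15 hF hN15
  obtain ⟨x30, hx30⟩ := exists_of_exact e30
  obtain ⟨x15, hx15⟩ := exists_of_exact e15
  have hom30 := h.om x30
  have hom15 := h.om x15
  rw [hx30] at hom30
  rw [hx15] at hom15
  rcases (near_E8 F hr hrd).resolve_left hn with ho | ho | ho | ho
  · have h1 := dvd15 hr ho
    rw [pv15, hFN] at h1
    have hrN : r ∣ N15 := nat_dvd hN15 (by
      have e : P15 (u : ℤ) = (u : ℤ) ^ 8 - (u : ℤ) ^ 7 + (u : ℤ) ^ 5 - (u : ℤ) ^ 4 + (u : ℤ) ^ 3 - u + 1 := by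
        unfold P15; ring
      rw [e]; exact h1)
    have h5 := eq_of_exact h hr hrm hrN e15
    exact e8_big (pp h) hu2 (Or.inl (by rw [← h5, hN15])) hN30 hom30
  · have h1 := dvd20 hr ho
    rw [pv20, hFN] at h1
    obtain ⟨N, hN⟩ : ∃ N : ℕ, (N : ℤ) = 1 - (u : ℤ) ^ 2 + (u : ℤ) ^ 4 - (u : ℤ) ^ 6 + (u : ℤ) ^ 8 := by
      refine CycExc.exists_nat ?_
      have e : 1 - (u : ℤ) ^ 2 + (u : ℤ) ^ 4 - (u : ℤ) ^ 6 + (u : ℤ) ^ 8 =
        1 + u ^ 2 * (u ^ 2 - 1) + u ^ 4 * (u ^ 2 * (u ^ 2 - 1)) := by ring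
      rw [e]
      have h5 : 0 ≤ (u : ℤ) ^ 2 * (u ^ 2 - 1) := mul_nonneg (by linarith) (by linarith)
      have h6 : 0 ≤ (u : ℤ) ^ 4 * (u ^ 2 * (u ^ 2 - 1)) := mul_nonneg (by linarith) h5
      linarith
    have hrN : r ∣ N := nat_dvd hN (by
      have e : 1 - (u : ℤ) ^ 2 + (u : ℤ) ^ 4 - (u : ℤ) ^ 6 + (u : ℤ) ^ 8 =
        (u : ℤ) ^ 8 - (u : ℤ) ^ 6 + (u : ℤ) ^ 4 - (u : ℤ) ^ 2 + 1 := by ring
      rw [e]; exact h1)
    obtain ⟨T, hT1, hT2, hT3⟩ := T_E8_20 hF hN hr hrN hr5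
    have h5 := eq_of_T h hT1 hT2 hr hrm hrN hT3
    exact e8_big (pp h) hu2 (Or.inr (Or.inl (by rw [← h5, hN]; rfl))) hN30 hom30
  · have h1 := dvd24 hr ho
    rw [pv24, hFN] at h1
    obtain ⟨N, hN⟩ : ∃ N : ℕ, (N : ℤ) = 1 - (u : ℤ) ^ 4 + (u : ℤ) ^ 8 := by
      refine CycExc.exists_nat ?_
      nlinarith [pow_succ (u : ℤ) 7, pow_succ (u : ℤ) 6, pow_succ (u : ℤ) 5, pow_succ (u : ℤ) 4]
    have hrN : r ∣ N := nat_dvd hN (by
      have e : 1 - (u : ℤ) ^ 4 + (u : ℤ) ^ 8 = (u : ℤ) ^ 8 - (u : ℤ) ^ 4 + 1 := by ring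
      rw [e]; exact h1)
    have h5 := eq_of_exact h hr hrm hrN (exact_E8_24 hF hN)
    exact e8_big (pp h) hu2 (Or.inr (Or.inr (by rw [← h5, hN]; rfl))) hN30 hom30
  · have h1 := dvd30 hr ho
    rw [pv30, hFN] at h1
    have hrN : r ∣ N30 := nat_dvd hN30 (by
      have e : P30 (u : ℤ) = (u : ℤ) ^ 8 + (u : ℤ) ^ 7 - (u : ℤ) ^ 5 - (u : ℤ) ^ 4 - (u : ℤ) ^ 3 + u + 1 := by
        unfold P30; ring
      rw [e]; exact h1)
    have h5 := eq_of_exact h hr hrm hrN e30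
    exact e8_mid (pp h) hu2 (by rw [← h5, hN30]) hN15 hom15

variable {S : Type u} [Group S] {v : ℕ}

theorem g2 (h : T4 p q S) (hg : IsNamed (.g2 v) S) : False := by
  obtain ⟨F, _, _, hF, ⟨e⟩⟩ := hg.real
  exact g2_core hF hg.cond.2 (h.congr e)

theorem f4 (h : T4 p q S) (hg : IsNamed (.f4 v) S) : False := by
  obtain ⟨F, _, _, hF, ⟨e⟩⟩ := hg.real
  exact f4_core hF hg.cond (h.congr e)

theorem td4 (h : T4 p q S) (hg : IsNamed (.td4 v) S) : False := by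
  obtain ⟨F, _, _, hF, ⟨e⟩⟩ := hg.real
  exact td4_core hF hg.cond (h.congr e)

theorem e7 (h : T4 p q S) (hg : IsNamed (.e7 v) S) : False := by
  obtain ⟨F, _, _, hF, ⟨e⟩⟩ := hg.real
  exact e7_core hF (h.congr e)

theorem e8 (h : T4 p q S) (hg : IsNamed (.e8 v) S) : False := by
  obtain ⟨F, _, _, hF, ⟨e⟩⟩ := hg.real
  exact e8_core hF (h.congr e)

end Cfsg.Agent.H892.TExc
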