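import Cfsg.Agent.H892.ElE8
import Cfsg.Agent.H469.Exc.P3
import Cfsg.Agent.H469.RowExc
import Cfsg.Agent.H43.Eleven.Local

/-!
# S3403: the exceptional groups in characteristic different from 11

`row_chev`, `row_tw` : `Row X` for `IsExceptionalChevChar s X`, `IsTwistedE6D4Char s X`, `s ≠ 11`.
-/

set_option autoImplicit false
set_option linter.unusedSectionVars false

namespace Cfsg.Agent.H892.El

open Subgroup Cfsg Cfsg.Lie Cfsg.Agent.KFacts Cfsg.Agent.KFacts.RgdFilt Cfsg.Agent.H43.Eleven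
open Cfsg.Agent.Nodes.RGDChev Cfsg.Agent.BpTab Cfsg.Agent.BpExc
open Cfsg.Agent.BpExc.TorCent Cfsg.Agent.BpExc.TorChev Cfsg.Agent.BpExc.Tow
  Cfsg.Agent.BpExc.TowChev Cfsg.Agent.BpExc.Fr Cfsg.Agent.BpExc.Pair Cfsg.Agent.BpExc.LangFr Cfsg.Agent.GpExc.Field
open Cfsg.Agent.KFacts.RgdField Cfsg.Agent.KFacts.RgdChevCoord
open Cfsg.Agent.H469.Exc

universe u v

/-- **No generator of `P` commutes with a nontrivial `s`-element.** -/
theorem no_local {G : Type*} [Group G] [Finite G] [IsSimpleGroup G] (hna : ∃ a b : G, a * b ≠ b * a)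
    {P : Subgroup G} (h : Cfg P) {s : ℕ} [hs : Fact s.Prime] (hs11 : s ≠ 11) (hF : HasFilt s G) {x u : G}
    (hPx : P = zpowers x) (hu1 : u ≠ 1) {j : ℕ} (hu : u ^ s ^ j = 1) (hxu : x * u = u * x) : False := by
  have hK : IsPGroup s (zpowers u) := by
    rintro ⟨_, i, rfl⟩
    refine ⟨j, Subtype.ext ?_⟩
    change (u ^ i) ^ s ^ j = 1
    rw [← zpow_natCast, ← zpow_mul, mul_comm, zpow_mul, zpow_natCast, hu, one_zpow]
  have hK1 : zpowers u ≠ ⊥ := by rwa [Ne, zpowers_eq_bot]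
  obtain ⟨V, Q, hV, -, hN, hQ, -, hC⟩ := hF.exists_par hna hK hK1
  have hxN : x ∈ normalizer ((zpowers u : Subgroup G) : Set G) := by
    have hc : Commute x u := hxu
    rw [mem_normalizer_iff]
    intro g
    constructor
    · rintro ⟨i, rfl⟩
      refine ⟨i, ?_⟩
      change u ^ i = x * u ^ i * x⁻¹
      rw [(hc.zpow_right i).eq, mul_inv_cancel_right]
    · rintro ⟨i, hi⟩
      refine ⟨i, ?_⟩
      change u ^ i = x * g * x⁻¹ at hi
      change u ^ i = g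
      have h1 : g = x⁻¹ * u ^ i * x := by rw [hi]; group
      have h2 : x⁻¹ * u ^ i = u ^ i * x⁻¹ := ((hc.inv_left).zpow_right i).eq
      rw [h1, h2, inv_mul_cancel_right]
  have hxV : x ∈ normalizer (V : Set G) := by rw [← hQ]; exact hN hxN
  have hPV : ¬ P ≤ V := by
    refine not_le_of_coprime h ?_
    obtain ⟨n, hn⟩ := IsPGroup.iff_card.1 hV
    rw [hn]
    intro hd
    have h1 : (11 : ℕ).Prime := by norm_num
    exact hs11 ((Nat.prime_dvd_prime_iff_eq h1 hs.out).1 (h1.dvd_of_dvd_pow hd)).symm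
  exact h.not_cent_self hPV hC (by rw [hPx, zpowers_le]; exact hxV)

variable {D : ChevalleyDatum} {l : ℕ} {M : CoxeterMatrix (Fin l)}

/-- elements of order 11 of `TT` conjugate to their cube are not regular -/
def Irr (hp : IsType D l M) : Prop :=
  ∀ (k : Type) [Field k] (r : ℕ) [Fact r.Prime] [CharP k r], LocFin k → ∀ t ∈ TT D k, ∀ g : ↥(D.group k),
    t ^ 11 = 1 → g * t * g⁻¹ = t ^ 3 → (Sx M.toCoxeterSystem hp.isCartan (ch hp) t).Nonempty

theorem irr_of_five (hp : IsType D l M) (h : ¬ 5 ∣ D.nroots) : Irr hp :=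
  fun _ _ _ _ _ hk _ ht _ ht11 hg => sx_of_conj hp M.toCoxeterSystem hk h ht ht11 hg

theorem irr_E8 (hp : IsType chevE8 8 CoxeterMatrix.E₈) : Irr hp :=
  fun _ _ _ _ _ hk _ ht _ ht11 _ => sx_E8 hp CoxeterMatrix.E₈.toCoxeterSystem hk ht ht11

/-- **The row.** -/
theorem row_of_model {hp : IsType D l M} {s : ℕ} [hs : Fact s.Prime] {X : Type u} [Group X] [Finite X]
    [IsSimpleGroup X] (h : Model hp s X) (hs11 : s ≠ 11) (hF : HasFilt s X) (hI : Irr hp) : Row X := by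
  intro hna P hP _
  exfalso
  obtain ⟨x, hxP, hx, hPx⟩ := exists_gen hP.card
  obtain ⟨y, hy⟩ := hP.aut3 (hP.normalizer_ne_top hna) hxP hx
  obtain ⟨σ, g, e, ι, he, hσ, Fσ, hfin, hι, hfix, hidx⟩ := h
  have hk := locFin s
  have key : ∀ (c : X) (z : ↥(D.group (KK s))), z * ι c * z⁻¹ ∈ TT D (KK s) →
      (Sx M.toCoxeterSystem hp.isCartan (ch hp) (z * ι c * z⁻¹)).Nonempty →
      ∃ u : X, u ≠ 1 ∧ (∃ j, u ^ s ^ j = 1) ∧ c * u = u * c := by
    intro c z hz hne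
    obtain ⟨u, hu1, ⟨j, hj⟩, hσu, huc⟩ := exists_unip_fix hp M.toCoxeterSystem hk he hσ Fσ (hfix c) hz hne
    obtain ⟨m, hm, hmr⟩ := hidx u hσu
    obtain ⟨u', rfl⟩ := mem_of_pow hj hm hmr
    refine ⟨u', fun h1 => hu1 (by rw [h1, map_one]), ⟨j, hι (by rw [map_pow, hj, map_one])⟩, hι ?_⟩
    rw [map_mul, map_mul]
    exact huc.symm
  have hx11 : x ^ 11 = 1 := by rw [← hx]; exact pow_orderOf_eq_one x
  obtain ⟨z, hz⟩ := TorAll.exists_toral' hp s (by norm_num : (11 : ℕ).Prime) (Ne.symm hs11) (y := ι x)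
    (by rw [← map_pow, hx11, map_one])
  have hz' : z⁻¹ * ι x * z⁻¹⁻¹ ∈ TT D (KK s) := by rwa [inv_inv]
  have ht11 : (z⁻¹ * ι x * z⁻¹⁻¹) ^ 11 = 1 := by
    rw [conj_pow, ← map_pow, hx11, map_one, mul_one, mul_inv_cancel]
  have hg : (z⁻¹ * ι y * z) * (z⁻¹ * ι x * z⁻¹⁻¹) * (z⁻¹ * ι y * z)⁻¹ = (z⁻¹ * ι x * z⁻¹⁻¹) ^ 3 := by
    rw [conj_pow, ← map_pow, ← hy, map_mul, map_mul, map_inv]
    group
  obtain ⟨u, hu1, ⟨j, hj⟩, hxu⟩ := key x _ hz' (hI (KK s) s hk _ hz' _ ht11 hg)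
  exact no_local hna hP hs11 hF hPx hu1 hj hxu

variable {s : ℕ} [hs : Fact s.Prime] {X : Type u} [Group X] [Finite X] [IsSimpleGroup X]

/-- **`G₂(q)`, `F₄(q)`, `E₆(q)`, `E₇(q)`, `E₈(q)`.** -/
theorem row_chev (hs11 : s ≠ 11) (h : IsExceptionalChevChar s X) : Row X := by
  have hF := RgdFiltChev.hasFilt_of_exceptional h
  obtain ⟨F, _, _, _, h⟩ := h
  rcases h with ⟨-, ⟨e⟩⟩ | ⟨⟨e⟩⟩ | ⟨⟨e⟩⟩ | ⟨⟨e⟩⟩ | ⟨⟨e⟩⟩
  · exact row_of_model ((model_untw (r := s) RowsUntw.g2T F).congr e) hs11 hF (irr_of_five _ (by decide +kernel))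
  · exact row_of_model ((model_untw (r := s) RowsUntw.f4T F).congr e) hs11 hF (irr_of_five _ (by decide +kernel))
  · exact row_of_model ((model_untw (r := s) RowsUntw.e6T F).congr e) hs11 hF (irr_of_five _ (by decide +kernel))
  · exact row_of_model ((model_untw (r := s) RowsUntw.e7T F).congr e) hs11 hF (irr_of_five _ (by decide +kernel))
  · exact row_of_model ((model_untw (r := s) RowsUntw.e8T F).congr e) hs11 hF (irr_E8 _)

/-- **`²E₆(q)`, `³D₄(q)`.** -/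
theorem row_tw (hs11 : s ≠ 11) (h : IsTwistedE6D4Char s X) : Row X := by
  have hF := RgdFiltTwAll.hasFilt_of_twisted h
  obtain ⟨K, _, _, _, q, hq, h⟩ := h
  rcases h with ⟨hK, ⟨e⟩⟩ | ⟨hK, ⟨e⟩⟩
  · exact row_of_model ((model_twE6 (r := s) hq hK).congr e) hs11 hF (irr_of_five _ (by decide +kernel))
  · exact row_of_model ((model_twD4 (r := s) hq hK).congr e) hs11 hF (irr_of_five _ (by decide +kernel))

end Cfsg.Agent.H892.El
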