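import Mathlib
import Cfsg.Agent.H955.QElt
import Cfsg.Agent.H955.FSDefs

/-!
# Unipotent isometries in characteristic two: basic identities

`nl p = p + 1`; the form `(x, y) ↦ polar Q x (nl p ^ (k - 1) y)` when `nl p ^ k = 0`; extension of
Gram data (`exists_isometry`); fixed spaces of involutions (`finrank_fixS_of_swap`); the cyclic
case and the case of two generators.
-/

set_option autoImplicit false
set_option linter.unusedSectionVars false

namespace Cfsg.Agent.H892.FSUni

open Module QuadraticMap Cfsg.Agent.LieClassical.OrthCore Cfsg.Agent.H955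

universe u v w

variable {F : Type u} [Field F] {V : Type v} [AddCommGroup V] [Module F V]
  {Q : QuadraticForm F V}

/-! ### The nilpotent part -/

/-- `p + 1` -/
def nl (p : V ≃ₗ[F] V) : Module.End F V := (p : V →ₗ[F] V) + 1

theorem nl_apply (p : V ≃ₗ[F] V) (x : V) : nl p x = p x + x := rfl

section CharTwo

variable [CharP F 2]

theorem add_self' (F : Type u) [Field F] [CharP F 2] {V : Type v} [AddCommGroup V] [Module F V]
    (x : V) : x + x = 0 := by
  rw [← two_smul F x, CharTwo.two_eq_zero, zero_smul]

theorem eq_of_add (F : Type u) [Field F] [CharP F 2] {V : Type v} [AddCommGroup V] [Module F V]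
    {x y : V} (h : x + y = 0) : x = y := by
  have h1 : x = -y := by rw [eq_neg_iff_add_eq_zero]; exact h
  have h2 : y + y = 0 := add_self' F y
  rw [h1, eq_comm, eq_neg_iff_add_eq_zero]; exact h2

theorem map_eq (p : V ≃ₗ[F] V) (x : V) : p x = nl p x + x := by
  rw [nl_apply, add_assoc, add_self' F x, add_zero]

theorem polar_self_zero (Q : QuadraticForm F V) (x : V) : polar Q x x = 0 := by
  rw [polar_self', CharTwo.two_eq_zero, zero_mul]

theorem polar_nl {p : V ≃ₗ[F] V} (hp : p ∈ O Q) (x y : V) :
    polar Q x (nl p y) = polar Q (nl p x) y + polar Q (nl p x) (nl p y) := by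
  simp only [nl_apply, polar_add_left, polar_add_right, polar_map hp]
  have h2 : (2 : F) = 0 := CharTwo.two_eq_zero
  linear_combination (- (polar Q (p x) y) - (polar Q x y)) * h2

theorem Q_nl {p : V ≃ₗ[F] V} (hp : p ∈ O Q) (y : V) : Q (nl p y) = polar Q y (nl p y) := by
  rw [nl_apply, Q_add, mem_O.1 hp, polar_add_right, polar_self_zero, polar_comm Q (p y) y]
  have h2 : (2 : F) = 0 := CharTwo.two_eq_zero
  linear_combination (Q y) * h2

/-- `(N ^ i x, N ^ j y) = 0` if `i + j ≥ k` and `N ^ k = 0` -/
theorem polar_zero {p : V ≃ₗ[F] V} (hp : p ∈ O Q) {k : ℕ} (hk : nl p ^ k = 0) {i j : ℕ}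
    (hij : k ≤ i + j) (x y : V) : polar Q ((nl p ^ i) x) ((nl p ^ j) y) = 0 := by
  have key : ∀ d i j : ℕ, k ≤ i + d → d ≤ j → polar Q ((nl p ^ i) x) ((nl p ^ j) y) = 0 := by
    intro d
    induction d with
    | zero =>
      intro i j hi _
      have h1 : nl p ^ i = 0 := by
        rw [← Nat.sub_add_cancel (show k ≤ i by omega), pow_add, hk, mul_zero]
      rw [h1, LinearMap.zero_apply, polar_zero_left]
    | succ d ih =>
      intro i j hi hj
      obtain ⟨j', rfl⟩ : ∃ j', j = j' + 1 := ⟨j - 1, by omega⟩
      have e1 : (nl p ^ (j' + 1)) y = nl p ((nl p ^ j') y) := by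
        rw [pow_succ', Module.End.mul_apply]
      have e2 : nl p ((nl p ^ i) x) = (nl p ^ (i + 1)) x := by
        rw [pow_succ', Module.End.mul_apply]
      rw [e1, polar_nl hp, e2, ← e1, ih (i + 1) j' (by omega) (by omega),
        ih (i + 1) (j' + 1) (by omega) (by omega), add_zero]
  exact key j i j hij le_rfl

/-- the top form -/
theorem polar_top {p : V ≃ₗ[F] V} (hp : p ∈ O Q) {k : ℕ} (hk : nl p ^ k = 0) {i j : ℕ}
    (hij : i + j + 1 = k) (x y : V) :
    polar Q ((nl p ^ i) x) ((nl p ^ j) y) = polar Q x ((nl p ^ (k - 1)) y) := by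
  induction i generalizing j with
  | zero =>
    have : j = k - 1 := by omega
    rw [this]
    rfl
  | succ i ih =>
    rw [← ih (j := j + 1) (by omega)]
    have e1 : (nl p ^ (j + 1)) y = nl p ((nl p ^ j) y) := by
      rw [pow_succ', Module.End.mul_apply]
    have e2 : nl p ((nl p ^ i) x) = (nl p ^ (i + 1)) x := by
      rw [pow_succ', Module.End.mul_apply]
    rw [e1, polar_nl hp, e2, ← e1, polar_zero hp hk (i := i + 1) (j := j + 1) (by omega),
      add_zero]

theorem top_symm {p : V ≃ₗ[F] V} (hp : p ∈ O Q) {k : ℕ} (hk : nl p ^ k = 0) (hk1 : 1 ≤ k)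
    (x y : V) : polar Q x ((nl p ^ (k - 1)) y) = polar Q y ((nl p ^ (k - 1)) x) := by
  rw [polar_comm Q y, ← polar_top hp hk (i := k - 1) (j := 0) (by omega) x y]
  rfl

/-! ### Fixed spaces of involutions -/

theorem finrank_fixS_of_swap [FiniteDimensional F V] {h : V ≃ₗ[F] V} (hh : h * h = 1)
    {W : Submodule F V} (hW : W ⊔ W.map (h : V →ₗ[F] V) = ⊤)
    (hd : 2 * finrank F W ≤ finrank F V) : 2 * finrank F (fixS h) = finrank F V := by
  have hh' : ∀ x, h (h x) = x := fun x => by
    have := congrArg (fun g : V ≃ₗ[F] V => g x) hh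
    exact this
  have h1 : finrank F (W.map (h : V →ₗ[F] V)) = finrank F W := LinearEquiv.finrank_map_eq h W
  have h2 := Submodule.finrank_sup_add_finrank_inf_eq W (W.map (h : V →ₗ[F] V))
  rw [hW, finrank_top, h1] at h2
  have h3 : finrank F (W ⊓ W.map (h : V →ₗ[F] V) : Submodule F V) = 0 := by omega
  rw [Submodule.finrank_eq_zero] at h3
  have h4 : Disjoint W (fixS h) := by
    rw [Submodule.disjoint_def]
    intro x hx hx'
    have : x ∈ W ⊓ W.map (h : V →ₗ[F] V) := ⟨hx, x, hx, mem_fixS.1 hx'⟩
    rw [h3] at this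
    exact (Submodule.mem_bot F).1 this
  have h5 := Submodule.finrank_add_finrank_le_of_disjoint h4
  have h6 := finrank_fixS_add_comS h
  have h7 : comS h ≤ fixS h := by
    intro x hx
    obtain ⟨w, rfl⟩ := mem_comS.1 hx
    rw [mem_fixS, map_sub, hh']
    apply eq_of_add F
    abel
  have h8 := Submodule.finrank_mono h7
  omega

/-! ### Isometries from Gram data -/

theorem polar_sum {I : Type w} (x : I → V) (a b : I →₀ F) :
    polar Q (Finsupp.linearCombination F x a) (Finsupp.linearCombination F x b) =
      a.sum fun i c => b.sum fun j d => c * (d * polar Q (x i) (x j)) := by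
  rw [Finsupp.linearCombination_apply, Finsupp.linearCombination_apply]
  have h1 : ∀ (s t : V), polar Q s t = polarBilin Q s t := fun s t => rfl
  rw [h1, Finsupp.sum, map_sum, LinearMap.sum_apply]
  refine Finset.sum_congr rfl fun i _ => ?_
  rw [Finsupp.sum, map_sum]
  refine Finset.sum_congr rfl fun j _ => ?_
  rw [← h1, polar_smul_left, polar_smul_right, smul_eq_mul, smul_eq_mul]

theorem exists_isometry [FiniteDimensional F V] (hQ : Nondeg Q) {I : Type w} (x y : I → V)
    (hx : Submodule.span F (Set.range x) = ⊤) (hy : Submodule.span F (Set.range y) = ⊤)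
    (hq : ∀ i, Q (x i) = Q (y i)) (hb : ∀ i j, polar Q (x i) (x j) = polar Q (y i) (y j)) :
    ∃ h ∈ O Q, ∀ i, h (x i) = y i := by
  classical
  set X := Finsupp.linearCombination F x with hX
  set Y := Finsupp.linearCombination F y with hY
  have hXs : Function.Surjective X := by
    rw [← LinearMap.range_eq_top, Finsupp.range_linearCombination, hx]
  have hYs : Function.Surjective Y := by
    rw [← LinearMap.range_eq_top, Finsupp.range_linearCombination, hy]
  have hpol : ∀ a b, polar Q (X a) (X b) = polar Q (Y a) (Y b) := by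
    intro a b
    rw [polar_sum, polar_sum]
    refine Finsupp.sum_congr fun i _ => Finsupp.sum_congr fun j _ => ?_
    rw [hb]
  have hQQ : ∀ a, Q (X a) = Q (Y a) := by
    intro a
    induction a using Finsupp.induction_linear with
    | zero => simp
    | add a b ha hb' => rw [LinearMap.map_add X, LinearMap.map_add Y, Q_add, Q_add, ha, hb', hpol]
    | single i c =>
      rw [hX, hY, Finsupp.linearCombination_single, Finsupp.linearCombination_single,
        QuadraticMap.map_smul, QuadraticMap.map_smul, hq]
  have hker : ∀ a, X a = 0 → Y a = 0 := by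
    intro a ha
    refine hQ _ fun z => ?_
    obtain ⟨b, rfl⟩ := hYs z
    rw [← hpol, ha, polar_zero_left]
  obtain ⟨s, hs⟩ := X.exists_rightInverse_of_surjective (LinearMap.range_eq_top.2 hXs)
  have hs' : ∀ v, X (s v) = v := fun v => LinearMap.congr_fun hs v
  let H : V →ₗ[F] V := Y ∘ₗ s
  have hH : ∀ a, H (X a) = Y a := by
    intro a
    have h1 : X (s (X a) - a) = 0 := by rw [map_sub, hs', sub_self]
    have h2 := hker _ h1
    rw [map_sub, sub_eq_zero] at h2
    exact h2
  have hHQ : ∀ v, Q (H v) = Q v := by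
    intro v
    obtain ⟨a, rfl⟩ := hXs v
    rw [hH, hQQ]
  have hinj : Function.Injective H := by
    rw [← LinearMap.ker_eq_bot, LinearMap.ker_eq_bot']
    intro v hv
    refine hQ _ fun z => ?_
    have h1 : polar Q (H v) (H z) = polar Q v z := by
      simp only [polar, ← map_add, hHQ]
    rw [← h1, hv, polar_zero_left]
  refine ⟨LinearEquiv.ofInjectiveEndo H hinj, fun v => hHQ v, fun i => ?_⟩
  change H (x i) = y i
  have h1 : x i = X (Finsupp.single i 1) := by
    rw [hX, Finsupp.linearCombination_single, one_smul]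
  rw [h1, hH, hY, Finsupp.linearCombination_single, one_smul]

end CharTwo

end Cfsg.Agent.H892.FSUni
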