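import Mathlib
import Cfsg.Agent.H892.FSUniA

/-!
# Unipotent isometries in characteristic two: one and two generators
-/

set_option autoImplicit false
set_option linter.unusedSectionVars false

namespace Cfsg.Agent.H892.FSUni

open Module QuadraticMap Cfsg.Agent.LieClassical.OrthCore Cfsg.Agent.H955

universe u v w

variable {F : Type u} [Field F] {V : Type v} [AddCommGroup V] [Module F V]
  {Q : QuadraticForm F V} [CharP F 2]

/-- the conclusion: `p` is inverted by an isometry of order two with fixed space of dimension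
`dim V / 2` -/
def Good (Q : QuadraticForm F V) (p : V ≃ₗ[F] V) : Prop :=
  ∃ h ∈ O Q, h * h = 1 ∧ h * p = p⁻¹ * h ∧ 2 * finrank F (fixS h) = finrank F V

theorem zpow_mem_O {p : V ≃ₗ[F] V} (hp : p ∈ O Q) (i : ℤ) : p ^ i ∈ O Q := zpow_mem hp i

theorem polar_zpow {p : V ≃ₗ[F] V} (hp : p ∈ O Q) (i j : ℤ) (x y : V) :
    polar Q ((p ^ i) x) ((p ^ j) y) = polar Q x ((p ^ (j - i)) y) := by
  rw [← polar_map (zpow_mem_O hp i) x, ← LinearEquiv.mul_apply, ← zpow_add]
  congr 3
  ring_nf

theorem polar_zpow_symm {p : V ≃ₗ[F] V} (hp : p ∈ O Q) (i : ℤ) (x y : V) :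
    polar Q x ((p ^ i) y) = polar Q y ((p ^ (-i)) x) := by
  rw [polar_comm Q y, ← polar_map (zpow_mem_O hp (-i)) x ((p ^ i) y), ← LinearEquiv.mul_apply,
    ← zpow_add, neg_add_cancel, zpow_zero]
  rfl

/-- a subspace containing all `p ^ i v` contains all `N ^ i v` -/
theorem nl_pow_mem {p : V ≃ₗ[F] V} {S : Submodule F V} (hS : ∀ x ∈ S, p x ∈ S) (i : ℕ) {x : V}
    (hx : x ∈ S) : (nl p ^ i) x ∈ S := by
  induction i with
  | zero => exact hx
  | succ i ih =>
    rw [pow_succ', Module.End.mul_apply, nl_apply]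
    exact S.add_mem (hS _ ih) ih

/-- `N ^ i v` is a combination of the `p ^ j v`, `j ≤ i` -/
theorem nl_pow_mem_of_le {p : V ≃ₗ[F] V} {S : Submodule F V} {v : V} (i : ℕ) :
    ∀ (m : ℕ), (∀ j ≤ i + m, (p ^ j) v ∈ S) → ∀ j ≤ m, (nl p ^ i) ((p ^ j) v) ∈ S := by
  induction i with
  | zero =>
    intro m h j hj
    exact h j (by omega)
  | succ i ih =>
    intro m h j hj
    rw [pow_succ, Module.End.mul_apply, nl_apply, map_add]
    have e1 : p ((p ^ j) v) = (p ^ (j + 1)) v := by rw [pow_succ', LinearEquiv.mul_apply]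
    rw [e1]
    exact S.add_mem (ih (m + 1) (fun j hj => h j (by omega)) (j + 1) (by omega))
      (ih (m + 1) (fun j hj => h j (by omega)) j (by omega))

theorem span_zpow_inv (p : V ≃ₗ[F] V) (v : V) :
    ∀ x ∈ Submodule.span F (Set.range fun i : ℤ => (p ^ i) v),
      p x ∈ Submodule.span F (Set.range fun i : ℤ => (p ^ i) v) := by
  intro x hx
  have h1 : Submodule.span F (Set.range fun i : ℤ => (p ^ i) v) ≤
      (Submodule.span F (Set.range fun i : ℤ => (p ^ i) v)).comap (p : V →ₗ[F] V) := by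
    rw [Submodule.span_le]
    rintro _ ⟨i, rfl⟩
    apply Submodule.subset_span
    refine ⟨i + 1, ?_⟩
    change (p ^ (i + 1)) v = p ((p ^ i) v)
    rw [add_comm, zpow_add, zpow_one, LinearEquiv.mul_apply]
  exact h1 hx

/-- a `p`-invariant finite-dimensional subspace is `p ^ i`-invariant for every integer `i` -/
theorem zpow_mem_of_inv [FiniteDimensional F V] {p : V ≃ₗ[F] V} {S : Submodule F V}
    (hS : ∀ x ∈ S, p x ∈ S) (i : ℤ) {x : V} (hx : x ∈ S) : (p ^ i) x ∈ S := by
  have hinv : ∀ x ∈ S, p⁻¹ x ∈ S := by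
    intro x hx
    have h1 : S.map (p : V →ₗ[F] V) = S := by
      apply Submodule.eq_of_le_of_finrank_eq
      · rintro _ ⟨y, hy, rfl⟩
        exact hS y hy
      · exact LinearEquiv.finrank_map_eq p S
    rw [← h1] at hx
    obtain ⟨y, hy, rfl⟩ := hx
    change p.symm (p y) ∈ S
    rw [LinearEquiv.symm_apply_apply]
    exact hy
  induction i using Int.induction_on with
  | zero => exact hx
  | succ i ih =>
    rw [add_comm, zpow_add, zpow_one, LinearEquiv.mul_apply]
    exact hS _ ih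
  | pred i ih =>
    rw [sub_eq_add_neg, add_comm, zpow_add, zpow_neg_one, LinearEquiv.mul_apply]
    exact hinv _ ih

/-- cyclic case -/
theorem good_cyclic [FiniteDimensional F V] (hQ : Nondeg Q) {p : V ≃ₗ[F] V} (hp : p ∈ O Q) {n : ℕ}
    (hd : finrank F V = 2 * n) (v : V)
    (hv : Submodule.span F (Set.range fun i : Fin (2 * n) => (nl p ^ (i : ℕ)) v) = ⊤) :
    Good Q p := by
  classical
  have hspan : Submodule.span F (Set.range fun i : ℤ => (p ^ i) v) = ⊤ := by
    rw [eq_top_iff, ← hv, Submodule.span_le]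
    rintro _ ⟨i, rfl⟩
    exact nl_pow_mem (span_zpow_inv p v) i (Submodule.subset_span ⟨0, rfl⟩)
  have hspan' : Submodule.span F (Set.range fun i : ℤ => (p ^ (-i - 1)) v) = ⊤ := by
    rw [← hspan]
    congr 1
    ext x
    constructor
    · rintro ⟨i, rfl⟩
      exact ⟨-i - 1, rfl⟩
    · rintro ⟨i, rfl⟩
      exact ⟨-i - 1, by
        change (p ^ (-(-i - 1) - 1)) v = _
        congr 2
        ring⟩
  obtain ⟨h, hh, hhv⟩ := exists_isometry hQ (fun i : ℤ => (p ^ i) v)
    (fun i : ℤ => (p ^ (-i - 1)) v) hspan hspan'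
    (fun i => by rw [mem_O.1 (zpow_mem_O hp i), mem_O.1 (zpow_mem_O hp (-i - 1))])
    (fun i j => by
      rw [polar_zpow hp, polar_zpow hp, polar_zpow_symm hp]
      congr 3
      ring_nf)
  have hext : ∀ g g' : V ≃ₗ[F] V, (∀ i : ℤ, g ((p ^ i) v) = g' ((p ^ i) v)) → g = g' := by
    intro g g' hg
    apply LinearEquiv.toLinearMap_injective
    apply LinearMap.ext_on_range hspan
    intro i
    exact hg i
  have hinvol : h * h = 1 := by
    apply hext
    intro i
    rw [LinearEquiv.mul_apply, hhv, hhv (-i - 1)]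
    change _ = (p ^ i) v
    congr 2
    ring
  refine ⟨h, hh, hinvol, ?_, ?_⟩
  · apply hext
    intro i
    rw [LinearEquiv.mul_apply, LinearEquiv.mul_apply, hhv]
    have e1 : p ((p ^ i) v) = (p ^ (i + 1)) v := by
      rw [add_comm, zpow_add, zpow_one, LinearEquiv.mul_apply]
    rw [e1, hhv, ← LinearEquiv.mul_apply, ← zpow_neg_one, ← zpow_add]
    congr 2
    ring
  · let W : Submodule F V := Submodule.span F (Set.range fun i : Fin n => (p ^ (i : ℕ)) v)
    have hWd : finrank F W ≤ n := by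
      have := finrank_range_le_card (R := F) (fun i : Fin n => (p ^ (i : ℕ)) v)
      rwa [Fintype.card_fin] at this
    refine finrank_fixS_of_swap hinvol (W := W) ?_ (by omega)
    -- `W + h W` contains `p ^ j v` for `-n ≤ j < n`
    have hmem : ∀ j : ℤ, -n ≤ j → j < n → (p ^ j) v ∈ W ⊔ W.map (h : V →ₗ[F] V) := by
      intro j h1 h2
      by_cases hj : 0 ≤ j
      · obtain ⟨m, rfl⟩ := Int.eq_ofNat_of_zero_le hj
        apply Submodule.mem_sup_left
        apply Submodule.subset_span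
        exact ⟨⟨m, by omega⟩, by simp⟩
      · obtain ⟨m, hm⟩ := Int.eq_ofNat_of_zero_le (show 0 ≤ -j - 1 by omega)
        apply Submodule.mem_sup_right
        refine ⟨(p ^ m) v, Submodule.subset_span ⟨⟨m, by omega⟩, rfl⟩, ?_⟩
        change h ((p ^ m) v) = _
        have h3 := hhv (m : ℤ)
        rw [zpow_natCast] at h3
        rw [h3]
        congr 2
        omega
    have hmap : (W ⊔ W.map (h : V →ₗ[F] V)).map ((p ^ n : V ≃ₗ[F] V) : V →ₗ[F] V) = ⊤ := by
      rw [eq_top_iff, ← hv, Submodule.span_le]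
      rintro _ ⟨i, rfl⟩
      have hi := i.2
      have h4 := nl_pow_mem_of_le (p := p)
        (S := (W ⊔ W.map (h : V →ₗ[F] V)).map ((p ^ n : V ≃ₗ[F] V) : V →ₗ[F] V)) (v := v) (i : ℕ) 0
        (fun j hj => by
          refine ⟨(p ^ ((j : ℤ) - n)) v, hmem _ (by omega) (by omega), ?_⟩
          change (p ^ n) ((p ^ ((j : ℤ) - n)) v) = (p ^ j) v
          rw [← zpow_natCast, ← zpow_natCast, ← LinearEquiv.mul_apply, ← zpow_add]
          congr 2
          ring) 0 le_rfl
      exact h4
    rw [eq_top_iff]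
    intro x _
    have h5 : (p ^ n) x ∈ (W ⊔ W.map (h : V →ₗ[F] V)).map ((p ^ n : V ≃ₗ[F] V) : V →ₗ[F] V) := by
      rw [hmap]; trivial
    obtain ⟨y, hy, hyx⟩ := h5
    have : y = x := (p ^ n : V ≃ₗ[F] V).injective hyx
    rwa [this] at hy

/-- `(x, p ^ i x)` is determined by the values `Q (N ^ j x)` -/
theorem polar_pow_eq {p : V ≃ₗ[F] V} (hp : p ∈ O Q) (i : ℕ) :
    ∀ x y : V, (∀ j : ℕ, Q ((nl p ^ j) x) = Q ((nl p ^ j) y)) →
      polar Q x ((p ^ i) x) = polar Q y ((p ^ i) y) := by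
  have h2 : (2 : F) = 0 := CharTwo.two_eq_zero
  have key : ∀ i : ℕ, (∀ x y : V, (∀ j : ℕ, Q ((nl p ^ j) x) = Q ((nl p ^ j) y)) →
      polar Q x ((p ^ i) x) = polar Q y ((p ^ i) y)) ∧
      (∀ x y : V, (∀ j : ℕ, Q ((nl p ^ j) x) = Q ((nl p ^ j) y)) →
      polar Q x ((p ^ (i + 1)) x) = polar Q y ((p ^ (i + 1)) y)) := by
    intro i
    induction i with
    | zero =>
      refine ⟨fun x y _ => ?_, fun x y hxy => ?_⟩
      · change polar Q x x = polar Q y y
        rw [polar_self_zero, polar_self_zero]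
      · have h1 : ∀ z : V, polar Q z ((p ^ (0 + 1)) z) = Q ((nl p ^ 1) z) := by
          intro z
          have h3 : (nl p ^ 1) z = nl p z := by rw [pow_one]
          rw [h3, Q_nl hp, nl_apply, polar_add_right, polar_self_zero, add_zero]
          rfl
        rw [h1, h1, hxy]
    | succ i ih =>
      refine ⟨ih.2, fun x y hxy => ?_⟩
      have h1 : ∀ z : V, polar Q z ((p ^ (i + 1 + 1)) z) =
          polar Q (nl p z) ((p ^ (i + 1)) (nl p z)) + polar Q z ((p ^ i) z) := by
        intro z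
        have e1 : polar Q (p z) ((p ^ (i + 1)) (p z)) = polar Q z ((p ^ (i + 1)) z) := by
          have : (p ^ (i + 1)) (p z) = p ((p ^ (i + 1)) z) := by
            rw [← LinearEquiv.mul_apply, ← LinearEquiv.mul_apply, ← pow_succ, ← pow_succ']
          rw [this, polar_map hp]
        have e2 : polar Q (p z) ((p ^ (i + 1)) z) = polar Q z ((p ^ i) z) := by
          rw [pow_succ', LinearEquiv.mul_apply, polar_map hp]
        have e3 : polar Q z ((p ^ (i + 1)) (p z)) = polar Q z ((p ^ (i + 1 + 1)) z) := by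
          rw [← LinearEquiv.mul_apply, ← pow_succ]
        simp only [nl_apply, map_add, polar_add_left, polar_add_right, e1, e2, e3]
        linear_combination (-(polar Q z ((p ^ (i + 1)) z)) - polar Q z ((p ^ i) z)) * h2
      rw [h1, h1, ih.1 x y hxy, ih.2 (nl p x) (nl p y) (fun j => by
        rw [← Module.End.mul_apply, ← Module.End.mul_apply, ← pow_succ]
        exact hxy (j + 1))]
  exact (key i).1

theorem polar_zpow_eq {p : V ≃ₗ[F] V} (hp : p ∈ O Q) {x y : V}
    (hxy : ∀ j : ℕ, Q ((nl p ^ j) x) = Q ((nl p ^ j) y)) (i : ℤ) :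
    polar Q x ((p ^ i) x) = polar Q y ((p ^ i) y) := by
  obtain ⟨n, rfl | rfl⟩ := Int.eq_nat_or_neg i
  · rw [zpow_natCast]
    exact polar_pow_eq hp n x y hxy
  · rw [polar_zpow_symm hp, neg_neg, polar_zpow_symm hp (-(n : ℤ)) y y, neg_neg, zpow_natCast]
    exact polar_pow_eq hp n x y hxy

/-- two generators -/
theorem good_two [FiniteDimensional F V] (hQ : Nondeg Q) {p : V ≃ₗ[F] V} (hp : p ∈ O Q) {k : ℕ}
    (hk : nl p ^ k = 0) (hd : finrank F V = 2 * k) (a b : V)
    (hspan : Submodule.span F (Set.range fun x : Fin k => (nl p ^ (x : ℕ)) a) ⊔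
      Submodule.span F (Set.range fun x : Fin k => (nl p ^ (x : ℕ)) b) = ⊤)
    (hab : ∀ j : ℕ, Q ((nl p ^ j) a) = Q ((nl p ^ j) b)) : Good Q p := by
  classical
  let S : V → Submodule F V := fun v => Submodule.span F (Set.range fun i : ℤ => (p ^ i) v)
  have hle : ∀ v, Submodule.span F (Set.range fun x : Fin k => (nl p ^ (x : ℕ)) v) ≤ S v := by
    intro v
    rw [Submodule.span_le]
    rintro _ ⟨i, rfl⟩
    exact nl_pow_mem (span_zpow_inv p v) i (Submodule.subset_span ⟨0, rfl⟩)
  have hge : ∀ v, S v ≤ Submodule.span F (Set.range fun x : Fin k => (nl p ^ (x : ℕ)) v) := by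
    intro v
    have hmem : ∀ i : ℕ, (nl p ^ i) v ∈
        Submodule.span F (Set.range fun x : Fin k => (nl p ^ (x : ℕ)) v) := by
      intro i
      by_cases hi : i < k
      · exact Submodule.subset_span ⟨⟨i, hi⟩, rfl⟩
      · have h1 : nl p ^ i = 0 := by
          rw [← Nat.sub_add_cancel (show k ≤ i by omega), pow_add, hk, mul_zero]
        rw [h1]
        exact Submodule.zero_mem _
    have hinv : ∀ x ∈ Submodule.span F (Set.range fun x : Fin k => (nl p ^ (x : ℕ)) v),
        p x ∈ Submodule.span F (Set.range fun x : Fin k => (nl p ^ (x : ℕ)) v) := by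
      intro x hx
      have h1 : Submodule.span F (Set.range fun x : Fin k => (nl p ^ (x : ℕ)) v) ≤
          (Submodule.span F (Set.range fun x : Fin k => (nl p ^ (x : ℕ)) v)).comap
            (p : V →ₗ[F] V) := by
        rw [Submodule.span_le]
        rintro _ ⟨i, rfl⟩
        change p ((nl p ^ (i : ℕ)) v) ∈
          Submodule.span F (Set.range fun x : Fin k => (nl p ^ (x : ℕ)) v)
        rw [map_eq, ← Module.End.mul_apply, ← pow_succ']
        exact Submodule.add_mem _ (hmem _) (hmem _)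
      exact h1 hx
    change Submodule.span F _ ≤ _
    rw [Submodule.span_le]
    rintro _ ⟨i, rfl⟩
    exact zpow_mem_of_inv hinv i (hmem 0)
  have htop : S a ⊔ S b = ⊤ := by
    rw [eq_top_iff, ← hspan]
    exact sup_le_sup (hle a) (hle b)
  have hdim : finrank F (S a) ≤ k := by
    refine (Submodule.finrank_mono (hge a)).trans ?_
    have := finrank_range_le_card (R := F) (fun i : Fin k => (nl p ^ (i : ℕ)) a)
    rwa [Fintype.card_fin] at this
  let x : ℤ ⊕ ℤ → V := Sum.elim (fun i => (p ^ i) a) (fun i => (p ^ i) b)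
  let y : ℤ ⊕ ℤ → V := Sum.elim (fun i => (p ^ (-i)) b) (fun i => (p ^ (-i)) a)
  have hx : Submodule.span F (Set.range x) = ⊤ := by
    rw [Set.Sum.elim_range, Submodule.span_union]
    exact htop
  have hneg : ∀ v : V, (Set.range fun i : ℤ => (p ^ (-i)) v) = Set.range fun i : ℤ => (p ^ i) v := by
    intro v
    ext z
    constructor
    · rintro ⟨i, rfl⟩
      exact ⟨-i, rfl⟩
    · rintro ⟨i, rfl⟩
      exact ⟨-i, by simp⟩
  have hy : Submodule.span F (Set.range y) = ⊤ := by
    rw [Set.Sum.elim_range, Submodule.span_union, hneg, hneg, sup_comm]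
    exact htop
  have hQab : Q a = Q b := hab 0
  obtain ⟨h, hh, hhv⟩ := exists_isometry hQ x y hx hy
    (by
      rintro (i | i)
      · change Q ((p ^ i) a) = Q ((p ^ (-i)) b)
        rw [mem_O.1 (zpow_mem_O hp i), mem_O.1 (zpow_mem_O hp (-i)), hQab]
      · change Q ((p ^ i) b) = Q ((p ^ (-i)) a)
        rw [mem_O.1 (zpow_mem_O hp i), mem_O.1 (zpow_mem_O hp (-i)), hQab])
    (by
      rintro (i | i) (j | j)
      · change polar Q ((p ^ i) a) ((p ^ j) a) = polar Q ((p ^ (-i)) b) ((p ^ (-j)) b)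
        rw [polar_zpow hp, polar_zpow hp, polar_zpow_symm hp, polar_zpow_eq hp hab]
        congr 3
        ring_nf
      · change polar Q ((p ^ i) a) ((p ^ j) b) = polar Q ((p ^ (-i)) b) ((p ^ (-j)) a)
        rw [polar_zpow hp, polar_zpow hp, polar_zpow_symm hp]
        congr 3
        ring_nf
      · change polar Q ((p ^ i) b) ((p ^ j) a) = polar Q ((p ^ (-i)) a) ((p ^ (-j)) b)
        rw [polar_zpow hp, polar_zpow hp, polar_zpow_symm hp]
        congr 3
        ring_nf
      · change polar Q ((p ^ i) b) ((p ^ j) b) = polar Q ((p ^ (-i)) a) ((p ^ (-j)) a)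
        rw [polar_zpow hp, polar_zpow hp, polar_zpow_symm hp, ← polar_zpow_eq hp hab]
        congr 3
        ring_nf)
  have h1 : ∀ i : ℤ, h ((p ^ i) a) = (p ^ (-i)) b := fun i => hhv (Sum.inl i)
  have h2 : ∀ i : ℤ, h ((p ^ i) b) = (p ^ (-i)) a := fun i => hhv (Sum.inr i)
  have hext : ∀ g g' : V ≃ₗ[F] V, (∀ i : ℤ, g ((p ^ i) a) = g' ((p ^ i) a)) →
      (∀ i : ℤ, g ((p ^ i) b) = g' ((p ^ i) b)) → g = g' := by
    intro g g' hg hg'
    apply LinearEquiv.toLinearMap_injective
    apply LinearMap.ext_on_range hx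
    rintro (i | i)
    · exact hg i
    · exact hg' i
  have hinvol : h * h = 1 := by
    apply hext
    · intro i
      rw [LinearEquiv.mul_apply, h1, h2, neg_neg]
      rfl
    · intro i
      rw [LinearEquiv.mul_apply, h2, h1, neg_neg]
      rfl
  have e1 : ∀ (i : ℤ) (v : V), p ((p ^ i) v) = (p ^ (i + 1)) v := by
    intro i v
    rw [add_comm, zpow_add, zpow_one, LinearEquiv.mul_apply]
  have e2 : ∀ (i : ℤ) (v : V), p⁻¹ ((p ^ (-i)) v) = (p ^ (-(i + 1))) v := by
    intro i v
    rw [← LinearEquiv.mul_apply, ← zpow_neg_one, ← zpow_add]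
    congr 2
    ring
  refine ⟨h, hh, hinvol, ?_, ?_⟩
  · apply hext
    · intro i
      rw [LinearEquiv.mul_apply, LinearEquiv.mul_apply, h1, e1, h1, e2]
    · intro i
      rw [LinearEquiv.mul_apply, LinearEquiv.mul_apply, h2, e1, h2, e2]
  · refine finrank_fixS_of_swap hinvol (W := S a) ?_ (by omega)
    have h3 : (S a).map (h : V →ₗ[F] V) = S b := by
      change (Submodule.span F _).map _ = Submodule.span F _
      rw [Submodule.map_span]
      congr 1
      ext z
      constructor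
      · rintro ⟨_, ⟨i, rfl⟩, rfl⟩
        exact ⟨-i, (h1 i).symm⟩
      · rintro ⟨i, rfl⟩
        exact ⟨_, ⟨-i, rfl⟩, by
          change h ((p ^ (-i)) a) = _
          rw [h1, neg_neg]⟩
    rw [h3]
    exact htop

end Cfsg.Agent.H892.FSUni
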