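import Mathlib
import Cfsg.Agent.H892.FSUniB

/-!
# Unipotent isometries in characteristic two: the induction

`unipotent_inv` : a `2`-element `p` of `O Q`, `Q` nondegenerate of dimension `2 n` over a finite
field of characteristic two, is inverted by an isometry `h` of order at most two whose fixed space
has dimension exactly `n` (so the Dickson invariant of `h` is `n mod 2`).
-/

set_option autoImplicit false
set_option linter.unusedSectionVars false

namespace Cfsg.Agent.H892.FSUni

open Module QuadraticMap Cfsg.Agent.LieClassical.OrthCore Cfsg.Agent.H955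

universe u v w

variable {F : Type u} [Field F] {V : Type v} [AddCommGroup V] [Module F V]
  {Q : QuadraticForm F V} [CharP F 2]

/-! ### Nondegenerate invariant subspaces -/

theorem polar_sum_left {I : Type w} (s : Finset I) (f : I → V) (y : V) :
    polar Q (∑ i ∈ s, f i) y = ∑ i ∈ s, polar Q (f i) y := by
  have h1 : ∀ (s t : V), polar Q s t = polarBilin Q s t := fun s t => rfl
  rw [h1, map_sum, LinearMap.sum_apply]
  rfl

/-- if the top form is nondegenerate on the `e s`, a combination of the `N ^ i (e s)` orthogonal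
to all of them has zero coefficients. -/
theorem coeff_zero {p : V ≃ₗ[F] V} (hp : p ∈ O Q) {k : ℕ} (hk : nl p ^ k = 0) {I : Type w}
    [Fintype I] (e : I → V)
    (hM : ∀ c : I → F, (∀ t, ∑ s, c s * polar Q (e s) ((nl p ^ (k - 1)) (e t)) = 0) → c = 0)
    (c : I × Fin k → F)
    (hc : ∀ (t : I) (j : Fin k), polar Q (∑ x : I × Fin k, c x • (nl p ^ (x.2 : ℕ)) (e x.1))
      ((nl p ^ (j : ℕ)) (e t)) = 0) : c = 0 := by
  classical
  have key : ∀ m : ℕ, ∀ hm : m < k, ∀ s, c (s, ⟨m, hm⟩) = 0 := by
    intro m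
    induction m using Nat.strong_induction_on with
    | _ m ih =>
      intro hm
      have h1 := hM (fun s => c (s, ⟨m, hm⟩)) (by
        intro t
        have h2 := hc t ⟨k - 1 - m, by omega⟩
        rw [polar_sum_left, Fintype.sum_prod_type] at h2
        rw [← h2]
        refine Finset.sum_congr rfl fun s _ => ?_
        rw [Finset.sum_eq_single (⟨m, hm⟩ : Fin k)]
        · rw [polar_smul_left, smul_eq_mul, polar_top hp hk (by simp; omega)]
        · intro i _ hi
          have hi' : (i : ℕ) ≠ m := fun h => hi (Fin.ext h)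
          rcases Nat.lt_or_ge (i : ℕ) m with h3 | h3
          · have := ih i h3 i.2 s
            have h4 : c (s, i) = 0 := this
            rw [h4, zero_smul, polar_zero_left]
          · rw [polar_smul_left, polar_zero hp hk (by simp; omega), smul_zero]
        · intro h
          exact absurd (Finset.mem_univ _) h)
      intro s
      exact congrFun h1 s
  funext x
  exact key x.2 x.2.2 x.1

/-- the span of the `N ^ i (e s)` -/
def spn (p : V ≃ₗ[F] V) (k : ℕ) {I : Type w} (e : I → V) : Submodule F V :=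
  Submodule.span F (Set.range fun x : I × Fin k => (nl p ^ (x.2 : ℕ)) (e x.1))

theorem mem_spn {p : V ≃ₗ[F] V} {k : ℕ} (hk : nl p ^ k = 0) {I : Type w} (e : I → V) (s : I)
    (i : ℕ) : (nl p ^ i) (e s) ∈ spn p k e := by
  by_cases hi : i < k
  · exact Submodule.subset_span ⟨(s, ⟨i, hi⟩), rfl⟩
  · have h1 : nl p ^ i = 0 := by
      rw [← Nat.sub_add_cancel (show k ≤ i by omega), pow_add, hk, mul_zero]
    rw [h1]
    exact Submodule.zero_mem _

theorem inv_spn {p : V ≃ₗ[F] V} {k : ℕ} (hk : nl p ^ k = 0) {I : Type w} (e : I → V) :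
    Inv p (spn p k e) := by
  intro x hx
  have h1 : spn p k e ≤ (spn p k e).comap (p : V →ₗ[F] V) := by
    rw [spn, Submodule.span_le]
    rintro _ ⟨⟨s, i⟩, rfl⟩
    change p ((nl p ^ (i : ℕ)) (e s)) ∈ spn p k e
    rw [map_eq, ← Module.End.mul_apply, ← pow_succ']
    exact Submodule.add_mem _ (mem_spn hk e s _) (mem_spn hk e s _)
  exact h1 hx

section

variable {p : V ≃ₗ[F] V} (hp : p ∈ O Q) {k : ℕ} (hk : nl p ^ k = 0) {I : Type w}
    [Fintype I] (e : I → V)
    (hM : ∀ c : I → F, (∀ t, ∑ s, c s * polar Q (e s) ((nl p ^ (k - 1)) (e t)) = 0) → c = 0)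

include hp hk hM

theorem linearIndependent_spn :
    LinearIndependent F (fun x : I × Fin k => (nl p ^ (x.2 : ℕ)) (e x.1)) := by
  classical
  rw [Fintype.linearIndependent_iff]
  intro c hc x
  have := coeff_zero hp hk e hM c (fun t j => by rw [hc, polar_zero_left])
  exact congrFun this x

theorem finrank_spn : finrank F (spn p k e) = Fintype.card I * k := by
  classical
  rw [spn, finrank_span_eq_card (linearIndependent_spn hp hk e hM), Fintype.card_prod,
    Fintype.card_fin]

theorem nondeg_spn : Nondeg (res Q (spn p k e)) := by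
  classical
  rw [nondeg_res_iff]
  intro x hx hxy
  obtain ⟨c, rfl⟩ := (Submodule.mem_span_range_iff_exists_fun F).1 hx
  have := coeff_zero hp hk e hM c (fun t j => hxy _ (mem_spn hk e t j))
  rw [this]
  simp

end

/-- restriction of `nl p` -/
theorem coe_nl_resT [FiniteDimensional F V] {p : V ≃ₗ[F] V} {W : Submodule F V} (h : Inv p W)
    (i : ℕ) (w : W) : (((nl (resT p W h)) ^ i) w : V) = (nl p ^ i) (w : V) := by
  induction i generalizing w with
  | zero => rfl
  | succ i ih =>
    rw [pow_succ, pow_succ, Module.End.mul_apply, Module.End.mul_apply, ih]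
    rfl

theorem nl_resT_pow [FiniteDimensional F V] {p : V ≃ₗ[F] V} {W : Submodule F V} (h : Inv p W)
    {k : ℕ} (hk : nl p ^ k = 0) : nl (resT p W h) ^ k = 0 := by
  ext w
  rw [coe_nl_resT, hk]
  rfl

theorem span_range_subtype {I : Type w} {W : Submodule F V} (b : I → W)
    (hb : Submodule.span F (Set.range fun i => (b i : V)) = W) :
    Submodule.span F (Set.range b) = ⊤ := by
  apply Submodule.map_injective_of_injective W.injective_subtype
  rw [Submodule.map_span, Submodule.map_subtype_top, ← Set.range_comp]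
  exact hb

/-! ### Gluing -/

theorem resT_glue [FiniteDimensional F V] {W : Submodule F V} (h : Nondeg (res Q W))
    {p : V ≃ₗ[F] V} (hW : Inv p W) (hW' : Inv p (perp Q W)) :
    glue h (resT p W hW, resT p (perp Q W) hW') = p := by
  ext v
  obtain ⟨a, b, rfl⟩ := exists_add_perp h v
  rw [glue_apply, map_add]
  rfl

theorem finrank_fixS_glue [FiniteDimensional F V] {W : Submodule F V} (h : Nondeg (res Q W))
    (x : (W ≃ₗ[F] W) × (perp Q W ≃ₗ[F] perp Q W)) :
    finrank F (fixS (glue h x)) = finrank F (fixS x.1) + finrank F (fixS x.2) := by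
  have h1 : fixS (glue h x) = (fixS (LinearEquiv.prodCongr x.1 x.2)).map
      (decomp h : (W × perp Q W) →ₗ[F] V) := fixS_tr (decomp h) _
  have h2 : fixS (LinearEquiv.prodCongr x.1 x.2) = (fixS x.1).prod (fixS x.2) := by
    ext y
    rw [mem_fixS, Submodule.mem_prod, mem_fixS, mem_fixS]
    constructor
    · intro h3
      exact ⟨congrArg Prod.fst h3, congrArg Prod.snd h3⟩
    · rintro ⟨h3, h4⟩
      exact Prod.ext h3 h4
  rw [h1, LinearEquiv.finrank_map_eq, h2, (prodSub _ _).finrank_eq, Module.finrank_prod]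

theorem good_glue [FiniteDimensional F V] {W : Submodule F V} (h : Nondeg (res Q W))
    {p : V ≃ₗ[F] V} (hW : Inv p W) (hW' : Inv p (perp Q W))
    (h1 : Good (res Q W) (resT p W hW)) (h2 : Good (res Q (perp Q W)) (resT p (perp Q W) hW')) :
    Good Q p := by
  obtain ⟨a, ha, ha2, hap, had⟩ := h1
  obtain ⟨b, hb, hb2, hbp, hbd⟩ := h2
  refine ⟨glue h (a, b), (glue_mem_O h).2 ⟨ha, hb⟩, ?_, ?_, ?_⟩
  · rw [← map_mul, Prod.mk_mul_mk, ha2, hb2]
    exact map_one (glue h)
  · have e1 : p⁻¹ = glue h ((resT p W hW)⁻¹, (resT p (perp Q W) hW')⁻¹) := by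
      have : glue h ((resT p W hW)⁻¹, (resT p (perp Q W) hW')⁻¹) =
          (glue h (resT p W hW, resT p (perp Q W) hW'))⁻¹ := by
        rw [← map_inv]
        rfl
      rw [this, resT_glue]
    rw [e1]
    conv_lhs => rw [← resT_glue h hW hW']
    rw [← map_mul, ← map_mul, Prod.mk_mul_mk, Prod.mk_mul_mk, hap, hbp]
  · rw [finrank_fixS_glue]
    have := (decomp h).finrank_eq
    rw [Module.finrank_prod] at this
    rw [← this]
    change 2 * (finrank F (fixS a) + finrank F (fixS b)) = _
    rw [← had, ← hbd]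
    ring

/-! ### Choice of two generators -/

section Choice

variable {p : V ≃ₗ[F] V} (hp : p ∈ O Q) {k : ℕ} (hk : nl p ^ k = 0) (hk1 : 1 ≤ k)
  (hβ : ∀ x, polar Q x ((nl p ^ (k - 1)) x) = 0)

include hp hk hk1 hβ

theorem Q_zero {i : ℕ} (hi : k ≤ 2 * i) (x : V) : Q ((nl p ^ i) x) = 0 := by
  obtain ⟨i, rfl⟩ : ∃ i', i = i' + 1 := ⟨i - 1, by omega⟩
  have e1 : (nl p ^ (i + 1)) x = nl p ((nl p ^ i) x) := by rw [pow_succ', Module.End.mul_apply]
  rw [e1, Q_nl hp, ← e1]
  by_cases h : k ≤ i + (i + 1)
  · exact polar_zero hp hk h x x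
  · rw [polar_top hp hk (by omega)]
    exact hβ x

theorem exists_pair [Finite F] {a b : V} (hab : polar Q a ((nl p ^ (k - 1)) b) ≠ 0) :
    ∃ u v : V, polar Q u ((nl p ^ (k - 1)) v) ≠ 0 ∧
      ∀ j : ℕ, Q ((nl p ^ j) u) = Q ((nl p ^ j) v) := by
  have h2 : (2 : F) = 0 := CharTwo.two_eq_zero
  have key : ∀ t : ℕ, t ≤ k → ∃ u v : V, polar Q u ((nl p ^ (k - 1)) v) ≠ 0 ∧
      ∀ j : ℕ, k - t ≤ j → Q ((nl p ^ j) u) = Q ((nl p ^ j) v) := by
    intro t
    induction t with
    | zero =>
      intro _
      refine ⟨a, b, hab, fun j hj => ?_⟩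
      rw [Q_zero hp hk hk1 hβ (by omega), Q_zero hp hk hk1 hβ (by omega)]
    | succ t ih =>
      intro ht
      obtain ⟨u, v, huv, hj⟩ := ih (by omega)
      obtain ⟨i, hi⟩ : ∃ i, i = k - (t + 1) := ⟨_, rfl⟩
      have hvu : polar Q v ((nl p ^ (k - 1)) u) ≠ 0 := by
        rwa [← top_symm hp hk hk1]
      rcases Nat.lt_or_ge (2 * i + 1) k with h1 | h1
      · -- modify `v`
        obtain ⟨m, hm⟩ : ∃ m, m = k - 1 - 2 * i := ⟨_, rfl⟩
        let c : F := (Q ((nl p ^ i) u) + Q ((nl p ^ i) v)) / polar Q v ((nl p ^ (k - 1)) u)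
        have e1 : ∀ j, (nl p ^ j) (v + c • (nl p ^ m) u) =
            (nl p ^ j) v + c • (nl p ^ (j + m)) u := by
          intro j
          rw [map_add, map_smul, pow_add, Module.End.mul_apply]
        refine ⟨u, v + c • (nl p ^ m) u, ?_, ?_⟩
        · rw [e1, polar_add_right]
          have h3 : nl p ^ (k - 1 + m) = 0 := by
            rw [← Nat.sub_add_cancel (show k ≤ k - 1 + m by omega), pow_add, hk, mul_zero]
          rw [h3, LinearMap.zero_apply, smul_zero, polar_zero_right, add_zero]
          exact huv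
        · intro j hj'
          rw [e1, Q_add, QuadraticMap.map_smul, Q_zero hp hk hk1 hβ (i := j + m) (by omega),
            smul_zero, add_zero, polar_smul_right, smul_eq_mul]
          by_cases hji : j = i
          · subst hji
            rw [polar_top hp hk (by omega)]
            have h3 : c * polar Q v ((nl p ^ (k - 1)) u) = Q ((nl p ^ j) u) + Q ((nl p ^ j) v) :=
              div_mul_cancel₀ _ hvu
            rw [h3]
            linear_combination (-(Q ((nl p ^ j) v))) * h2
          · rw [polar_zero hp hk (by omega), mul_zero, add_zero]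
            exact hj j (by omega)
      · rcases Nat.lt_or_ge (2 * i) k with h3 | h3
        · -- `k = 2 i + 1`
          have hki : 2 * i + 1 = k := by omega
          have hbig : ∀ (x y : V) (j : ℕ), i < j → Q ((nl p ^ j) x) = Q ((nl p ^ j) y) := by
            intro x y j hj'
            rw [Q_zero hp hk hk1 hβ (by omega), Q_zero hp hk hk1 hβ (by omega)]
          suffices hs : ∃ u v : V, polar Q u ((nl p ^ (k - 1)) v) ≠ 0 ∧
              Q ((nl p ^ i) u) = Q ((nl p ^ i) v) by
            obtain ⟨u, v, h4, h5⟩ := hs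
            refine ⟨u, v, h4, fun j hj' => ?_⟩
            by_cases hji : j = i
            · rw [hji, h5]
            · exact hbig u v j (by omega)
          have hmod : ∀ u v : V, polar Q v ((nl p ^ (k - 1)) u) ≠ 0 → Q ((nl p ^ i) u) = 0 →
              ∃ u v : V, polar Q u ((nl p ^ (k - 1)) v) ≠ 0 ∧
              Q ((nl p ^ i) u) = Q ((nl p ^ i) v) := by
            intro u v hvu hu
            let c : F := Q ((nl p ^ i) v) / polar Q v ((nl p ^ (k - 1)) u)
            refine ⟨u, v + c • u, ?_, ?_⟩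
            · rw [map_add, map_smul, polar_add_right, polar_smul_right, hβ, smul_zero, add_zero,
                top_symm hp hk hk1]
              exact hvu
            · rw [map_add, map_smul, Q_add, QuadraticMap.map_smul, hu, smul_zero, add_zero,
                polar_smul_right, smul_eq_mul, polar_top hp hk (by omega)]
              have h4 : c * polar Q v ((nl p ^ (k - 1)) u) = Q ((nl p ^ i) v) :=
                div_mul_cancel₀ _ hvu
              rw [h4]
              exact (CharTwo.add_self_eq_zero _).symm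
          by_cases hu : Q ((nl p ^ i) u) = 0
          · exact hmod u v hvu hu
          · by_cases hv : Q ((nl p ^ i) v) = 0
            · exact hmod v u huv hv
            · obtain ⟨c, hc⟩ : ∃ c : F, c * c = Q ((nl p ^ i) u) / Q ((nl p ^ i) v) := by
                have := Fintype.ofFinite F
                obtain ⟨c, hc⟩ := (Finite.injective_iff_surjective (f := frobenius F 2)).1
                  (frobenius_inj F 2) (Q ((nl p ^ i) u) / Q ((nl p ^ i) v))
                exact ⟨c, by rw [← hc, frobenius_def, pow_two]⟩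
              refine ⟨u, c • v, ?_, ?_⟩
              · rw [map_smul, polar_smul_right, smul_eq_mul]
                refine mul_ne_zero ?_ huv
                rintro rfl
                rw [mul_zero, eq_comm, div_eq_zero_iff] at hc
                exact hc.elim hu hv
              · rw [map_smul, QuadraticMap.map_smul, smul_eq_mul, hc, div_mul_cancel₀ _ hv]
        · refine ⟨u, v, huv, fun j hj' => ?_⟩
          rw [Q_zero hp hk hk1 hβ (by omega), Q_zero hp hk hk1 hβ (by omega)]
  obtain ⟨u, v, h1, h3⟩ := key k le_rfl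
  exact ⟨u, v, h1, fun j => h3 j (by omega)⟩

end Choice

/-! ### The induction -/

theorem good_step_one [FiniteDimensional F V] {p : V ≃ₗ[F] V} (hp : p ∈ O Q) {k : ℕ}
    (hk : nl p ^ k = 0) (hk1 : 1 ≤ k) {v : V} (hv : polar Q v ((nl p ^ (k - 1)) v) ≠ 0) :
    ∃ W : Submodule F V, 0 < finrank F W ∧ Nondeg (res Q W) ∧ ∃ hW : Inv p W,
      Good (res Q W) (resT p W hW) := by
  classical
  obtain ⟨n, rfl⟩ : ∃ n, k = 2 * n := by
    rcases Nat.even_or_odd' k with ⟨n, h | h⟩
    · exact ⟨n, h⟩
    · exfalso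
      apply hv
      rw [← polar_top hp hk (i := n) (j := n) (by omega), polar_self_zero]
  let e : Unit → V := fun _ => v
  have hM : ∀ c : Unit → F, (∀ t, ∑ s, c s * polar Q (e s) ((nl p ^ (2 * n - 1)) (e t)) = 0) →
      c = 0 := by
    intro c hc
    have := hc ()
    rw [Finset.univ_unique, Finset.sum_singleton] at this
    funext s
    exact (mul_eq_zero.1 this).resolve_right hv
  have hnd := nondeg_spn hp hk e hM
  have hfr := finrank_spn hp hk e hM
  have hinv := inv_spn hk e
  rw [Fintype.card_unit, one_mul] at hfr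
  refine ⟨spn p (2 * n) e, by omega, hnd, hinv, ?_⟩
  refine good_cyclic (n := n) hnd (resT_mem_O hp hinv) hfr ⟨v, mem_spn hk e () 0⟩ ?_
  apply span_range_subtype
  simp only [coe_nl_resT]
  rw [spn]
  congr 1
  ext x
  constructor
  · rintro ⟨i, rfl⟩
    exact ⟨((), i), rfl⟩
  · rintro ⟨⟨_, i⟩, rfl⟩
    exact ⟨i, rfl⟩

theorem good_step_two [Finite F] [FiniteDimensional F V] {p : V ≃ₗ[F] V} (hp : p ∈ O Q) {k : ℕ}
    (hk : nl p ^ k = 0) (hk1 : 1 ≤ k) (hβ : ∀ x, polar Q x ((nl p ^ (k - 1)) x) = 0)
    {a b : V} (hab : polar Q a ((nl p ^ (k - 1)) b) ≠ 0) :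
    ∃ W : Submodule F V, 0 < finrank F W ∧ Nondeg (res Q W) ∧ ∃ hW : Inv p W,
      Good (res Q W) (resT p W hW) := by
  classical
  obtain ⟨u, v, huv, hj⟩ := exists_pair hp hk hk1 hβ hab
  have hvu : polar Q v ((nl p ^ (k - 1)) u) ≠ 0 := by rwa [← top_symm hp hk hk1]
  let e : Bool → V := fun s => cond s u v
  have hM : ∀ c : Bool → F, (∀ t, ∑ s, c s * polar Q (e s) ((nl p ^ (k - 1)) (e t)) = 0) →
      c = 0 := by
    intro c hc
    have h1 := hc true
    have h2 := hc false
    rw [Fintype.sum_bool] at h1 h2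
    change c true * polar Q u ((nl p ^ (k - 1)) u) + c false * polar Q v ((nl p ^ (k - 1)) u) = 0
      at h1
    change c true * polar Q u ((nl p ^ (k - 1)) v) + c false * polar Q v ((nl p ^ (k - 1)) v) = 0
      at h2
    rw [hβ, mul_zero, zero_add] at h1
    rw [hβ, mul_zero, add_zero] at h2
    funext s
    cases s
    · exact (mul_eq_zero.1 h1).resolve_right hvu
    · exact (mul_eq_zero.1 h2).resolve_right huv
  have hnd := nondeg_spn hp hk e hM
  have hfr := finrank_spn hp hk e hM
  have hinv := inv_spn hk e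
  rw [Fintype.card_bool] at hfr
  refine ⟨spn p k e, by omega, hnd, hinv, ?_⟩
  refine good_two (k := k) hnd (resT_mem_O hp hinv) (nl_resT_pow hinv hk) hfr
    ⟨u, mem_spn hk e true 0⟩ ⟨v, mem_spn hk e false 0⟩ ?_ ?_
  · rw [← Submodule.span_union, ← Set.Sum.elim_range]
    apply span_range_subtype
    change _ = Submodule.span F (Set.range fun x : Bool × Fin k => (nl p ^ (x.2 : ℕ)) (e x.1))
    congr 1
    ext x
    constructor
    · rintro ⟨i | i, rfl⟩
      · exact ⟨(true, i), (coe_nl_resT hinv (i : ℕ) ⟨u, mem_spn hk e true 0⟩).symm⟩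
      · exact ⟨(false, i), (coe_nl_resT hinv (i : ℕ) ⟨v, mem_spn hk e false 0⟩).symm⟩
    · rintro ⟨⟨s, i⟩, rfl⟩
      cases s
      · exact ⟨Sum.inr i, coe_nl_resT hinv (i : ℕ) ⟨v, mem_spn hk e false 0⟩⟩
      · exact ⟨Sum.inl i, coe_nl_resT hinv (i : ℕ) ⟨u, mem_spn hk e true 0⟩⟩
  · intro j
    rw [res_apply, res_apply, coe_nl_resT, coe_nl_resT]
    exact hj j

theorem good_of_nilpotent [Finite F] (d : ℕ) : ∀ {V : Type v} [AddCommGroup V] [Module F V]
    [FiniteDimensional F V] (Q : QuadraticForm F V), Nondeg Q → finrank F V = d →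
    ∀ (p : V ≃ₗ[F] V), p ∈ O Q → (∃ k, nl p ^ k = 0) → Good Q p := by
  classical
  induction d using Nat.strong_induction_on with
  | _ d ih =>
    intro V _ _ _ Q hQ hd p hp hnil
    rcases Nat.eq_zero_or_pos d with h0 | h0
    · subst h0
      have hs : Subsingleton V := Module.finrank_zero_iff.1 hd
      have hall : ∀ g g' : V ≃ₗ[F] V, g = g' := fun g g' => by
        ext x
        exact Subsingleton.elim _ _
      refine ⟨1, one_mem _, hall _ _, hall _ _, ?_⟩
      have := Submodule.finrank_le (fixS (1 : V ≃ₗ[F] V))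
      omega
    · obtain ⟨k, hk, hmin⟩ : ∃ k, nl p ^ k = 0 ∧ ∀ j < k, nl p ^ j ≠ 0 :=
        ⟨Nat.find hnil, Nat.find_spec hnil, fun j hj => Nat.find_min hnil hj⟩
      have hnt : Nontrivial V := (Module.finrank_pos_iff (R := F)).1 (by omega)
      have hk1 : 1 ≤ k := by
        rcases Nat.eq_zero_or_pos k with h | h
        · exfalso
          subst h
          rw [pow_zero] at hk
          exact one_ne_zero hk
        · exact h
      have hstep : ∃ W : Submodule F V, 0 < finrank F W ∧ Nondeg (res Q W) ∧ ∃ hW : Inv p W,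
          Good (res Q W) (resT p W hW) := by
        by_cases hα : ∃ v, polar Q v ((nl p ^ (k - 1)) v) ≠ 0
        · obtain ⟨v, hv⟩ := hα
          exact good_step_one hp hk hk1 hv
        · push Not at hα
          obtain ⟨b, hb⟩ : ∃ b, (nl p ^ (k - 1)) b ≠ 0 := by
            by_contra hcon
            push Not at hcon
            exact hmin (k - 1) (by omega) (LinearMap.ext hcon)
          obtain ⟨a, ha⟩ : ∃ a, polar Q ((nl p ^ (k - 1)) b) a ≠ 0 := by
            by_contra hcon
            push Not at hcon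
            exact hb (hQ _ hcon)
          rw [polar_comm] at ha
          exact good_step_two hp hk hk1 hα ha
      obtain ⟨W, hW0, hWn, hWi, hWg⟩ := hstep
      have hpi : Inv p (perp Q W) := inv_perp hp hWi
      have hfr := finrank_add_perp hQ W
      refine good_glue hWn hWi hpi hWg ?_
      exact ih (finrank F (perp Q W)) (by omega) (res Q (perp Q W)) (nondeg_perp hQ hWn) rfl
        (resT p (perp Q W) hpi) (resT_mem_O hp hpi) ⟨k, nl_resT_pow hpi hk⟩

theorem nl_pow_two_pow (p : V ≃ₗ[F] V) {a : ℕ} (hpa : p ^ 2 ^ a = 1) : nl p ^ 2 ^ a = 0 := by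
  have key : ∀ (a : ℕ) (x : V), (nl p ^ 2 ^ a) x = (p ^ 2 ^ a) x + x := by
    intro a
    induction a with
    | zero => intro x; rw [pow_zero, pow_one, pow_one, nl_apply]
    | succ a ih =>
      intro x
      rw [pow_succ, mul_two, pow_add, pow_add, Module.End.mul_apply, ih, ih, map_add,
        LinearEquiv.mul_apply]
      have := add_self' F ((p ^ 2 ^ a) x)
      calc _ = (p ^ 2 ^ a) ((p ^ 2 ^ a) x) + x + ((p ^ 2 ^ a) x + (p ^ 2 ^ a) x) := by abel
        _ = _ := by rw [this, add_zero]
  ext x
  rw [key, hpa]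
  exact add_self' F x

/-- **Every `2`-element of `O Q` is inverted by an isometry of order at most two whose fixed space
has half the dimension.** -/
theorem unipotent_good [Finite F] [FiniteDimensional F V] (hQ : Nondeg Q) {p : V ≃ₗ[F] V}
    (hp : p ∈ O Q) {a : ℕ} (hpa : p ^ 2 ^ a = 1) : Good Q p :=
  good_of_nilpotent (finrank F V) Q hQ rfl p hp ⟨_, nl_pow_two_pow p hpa⟩

/-- the form required by the task `[L1 FSUni]` -/
theorem unipotent_inv [Finite F] [FiniteDimensional F V] (Q : QuadraticForm F V) (hQ : Nondeg Q)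
    {n : ℕ} (hd : finrank F V = 2 * n) {p : V ≃ₗ[F] V} (hp : p ∈ O Q) {a : ℕ}
    (hpa : p ^ 2 ^ a = 1) :
    ∃ h ∈ O Q, h * p * h⁻¹ = p⁻¹ ∧
      (finrank F (LinearMap.ker ((h : V →ₗ[F] V) - LinearMap.id)) + n) % 2 = 0 := by
  obtain ⟨h, hh, -, hhp, hf⟩ := unipotent_good hQ hp hpa
  refine ⟨h, hh, by rw [hhp, mul_assoc, mul_inv_cancel, mul_one], ?_⟩
  have h1 : finrank F (fixS h) = n := by omega
  change (finrank F (fixS h) + n) % 2 = 0
  omega

end Cfsg.Agent.H892.FSUni
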