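import Mathlib

/-!
# Diagonal matrices similar to their cube

* `card_eq_of_similar` : similar diagonal matrices have the same entries;
* `five_dvd` : `A = diag d`, `g A g⁻¹ = A ^ 3`, `d i ^ 11 = 1` : `5` divides the number of `i` with `d i ≠ 1`.
-/

set_option autoImplicit false

namespace Cfsg.Agent.H892.El

open Polynomial

variable {ι k : Type*} [Fintype ι] [DecidableEq ι] [Field k] [DecidableEq k]

/-- similar diagonal matrices have the same entries -/
theorem card_eq_of_similar {d e : ι → k} (g : Matrix.GeneralLinearGroup ι k)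
    (h : (g : Matrix ι ι k) * Matrix.diagonal d * ((g⁻¹ : Matrix.GeneralLinearGroup ι k) : Matrix ι ι k) = Matrix.diagonal e)
    (z : k) : (Finset.univ.filter fun i => d i = z).card = (Finset.univ.filter fun i => e i = z).card := by
  have h1 : (Matrix.diagonal d).charpoly = (Matrix.diagonal e).charpoly := by
    rw [← h, mul_assoc, Matrix.charpoly_mul_comm, mul_assoc, ← Units.val_mul, inv_mul_cancel, Units.val_one, mul_one]
  rw [Matrix.charpoly_diagonal, Matrix.charpoly_diagonal] at h1
  have h2 : Finset.univ.val.map d = Finset.univ.val.map e := by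
    have h3 := congrArg Polynomial.roots h1
    have key : ∀ f : ι → k, (∏ i, (X - C (f i))).roots = Finset.univ.val.map f := by
      intro f
      have h4 : ∏ i, (X - C (f i)) = ((Finset.univ.val.map f).map fun a => X - C a).prod := by
        rw [Multiset.map_map]
        rfl
      rw [h4, roots_multiset_prod_X_sub_C]
    rw [key, key] at h3
    exact h3
  have h4 := congrArg (Multiset.count z) h2
  rw [Multiset.count_map, Multiset.count_map] at h4
  simp only [Finset.card_def, Finset.filter_val]
  simpa only [eq_comm] using h4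

/-- **`5` divides the number of non-trivial entries.** -/
theorem five_dvd {d : ι → k} (g : Matrix.GeneralLinearGroup ι k) (hd : ∀ i, d i ^ 11 = 1)
    (h : (g : Matrix ι ι k) * Matrix.diagonal d * ((g⁻¹ : Matrix.GeneralLinearGroup ι k) : Matrix ι ι k) =
      Matrix.diagonal fun i => d i ^ 3) : 5 ∣ (Finset.univ.filter fun i => d i ≠ 1).card := by
  by_cases hne : ∃ i, d i ≠ 1
  swap
  · push Not at hne
    rw [Finset.filter_eq_empty_iff.2 fun i _ => not_not.2 (hne i), Finset.card_empty]
    exact dvd_zero 5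
  obtain ⟨i₀, hi₀⟩ := hne
  have hp : Fact (Nat.Prime 11) := ⟨by norm_num⟩
  have hζ : IsPrimitiveRoot (d i₀) 11 := by
    rw [← orderOf_eq_prime (hd i₀) hi₀]
    exact IsPrimitiveRoot.orderOf _
  generalize d i₀ = ζ at hζ
  let N : ℕ → ℕ := fun j => (Finset.univ.filter fun i => d i = ζ ^ j).card
  have hN3 : ∀ j, N (3 * j) = N j := by
    intro j
    have h1 := card_eq_of_similar g h (ζ ^ (3 * j))
    show (Finset.univ.filter fun i => d i = ζ ^ (3 * j)).card = _
    rw [h1]
    show _ = (Finset.univ.filter fun i => d i = ζ ^ j).card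
    congr 1
    ext i
    simp only [Finset.mem_filter, Finset.mem_univ, true_and]
    constructor
    · intro h2
      have h3 : (d i ^ 3) ^ 4 = (ζ ^ (3 * j)) ^ 4 := by rw [h2]
      have e1 : (d i ^ 3) ^ 4 = d i := by
        rw [← pow_mul, pow_succ, hd i, one_mul]
      have e2 : (ζ ^ (3 * j)) ^ 4 = ζ ^ j := by
        have : 3 * j * 4 = 11 * j + j := by ring
        rw [← pow_mul, this, pow_add, pow_mul, hζ.pow_eq_one, one_pow, one_mul]
      rw [e1, e2] at h3
      exact h3
    · intro h2
      rw [h2, ← pow_mul, mul_comm]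
  have hNm : ∀ j, N (j + 11) = N j := by
    intro j
    show (Finset.univ.filter fun i => d i = ζ ^ (j + 11)).card = _
    rw [pow_add, hζ.pow_eq_one, mul_one]
  have hcover : (Finset.univ.filter fun i => d i ≠ 1) =
      (Finset.range 10).biUnion fun j => Finset.univ.filter fun i => d i = ζ ^ (j + 1) := by
    ext i
    simp only [Finset.mem_filter, Finset.mem_univ, true_and, Finset.mem_biUnion, Finset.mem_range]
    constructor
    · intro h1
      obtain ⟨j, hj, hji⟩ := hζ.eq_pow_of_pow_eq_one (hd i)
      have hj0 : j ≠ 0 := by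
        rintro rfl
        rw [pow_zero] at hji
        exact h1 hji.symm
      refine ⟨j - 1, by omega, ?_⟩
      rw [Nat.sub_add_cancel (by omega), hji]
    · rintro ⟨j, hj, hji⟩ h1
      rw [hji] at h1
      have h2 := (hζ.pow_eq_one_iff_dvd _).1 h1
      have h3 := Nat.le_of_dvd (by omega) h2
      omega
  have hdisj : ∀ a ∈ Finset.range 10, ∀ b ∈ Finset.range 10, a ≠ b →
      Disjoint (Finset.univ.filter fun i => d i = ζ ^ (a + 1)) (Finset.univ.filter fun i => d i = ζ ^ (b + 1)) := by
    intro a ha b hb hab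
    rw [Finset.disjoint_left]
    intro i hi hi'
    simp only [Finset.mem_filter, Finset.mem_univ, true_and] at hi hi'
    rw [hi] at hi'
    have h1 := hζ.pow_inj (by simp only [Finset.mem_range] at ha; omega) (by simp only [Finset.mem_range] at hb; omega) hi'
    omega
  rw [hcover, Finset.card_biUnion hdisj]
  show 5 ∣ ∑ j ∈ Finset.range 10, N (j + 1)
  have e3 : N 3 = N 1 := hN3 1
  have e9 : N 9 = N 3 := hN3 3
  have e5 : N 5 = N 9 := by
    rw [← hN3 9]
    show _ = N (5 + 11 + 11)
    rw [hNm, hNm]
  have e4 : N 4 = N 5 := by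
    rw [← hN3 5]
    show _ = N (4 + 11)
    rw [hNm]
  have e6 : N 6 = N 2 := hN3 2
  have e7 : N 7 = N 6 := by
    rw [← hN3 6]
    show _ = N (7 + 11)
    rw [hNm]
  have e10 : N 10 = N 7 := by
    rw [← hN3 7]
    show _ = N (10 + 11)
    rw [hNm]
  have e8 : N 8 = N 10 := by
    rw [← hN3 10]
    show _ = N (8 + 11 + 11)
    rw [hNm, hNm]
  simp only [Finset.sum_range_succ, Finset.sum_range_zero]
  refine ⟨N 1 + N 2, ?_⟩
  show 0 + N 1 + N 2 + N 3 + N 4 + N 5 + N 6 + N 7 + N 8 + N 9 + N 10 = _
  rw [e8, e10, e7, e6, e4, e5, e9, e3]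
  ring

end Cfsg.Agent.H892.El
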