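import Cfsg.Agent.H892.ElReg

/-!
# Torus elements of order 11 of `E₈` are not regular

`sx_E8`. The root system of `E₈` contains `A₈`: `v 0, …, v 8` with differences roots and `v i + v j + v k - u` roots, where
`3 u = Σ v i`. In `ZMod 11` nine different elements with sum `0` contain three with sum `0`.
-/

set_option autoImplicit false
set_option linter.unusedSectionVars false

namespace Cfsg.Agent.H892.El

open CoxeterSystem Cfsg Cfsg.Lie Cfsg.Lie.ChevalleyDatum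
open Cfsg.Agent.ChevalleyStructure Cfsg.Agent.ChevalleyStructure.Elts Cfsg.Agent.ChevalleyStructure.CoxeterGeom
  Cfsg.Agent.ChevalleyStructure.CoxeterGeomTypes Cfsg.Agent.ChevalleyStructure.NPerm
open Cfsg.Agent.Tits.Roots Cfsg.Agent.Tits.Core Cfsg.Agent.Nodes Cfsg.Agent.Nodes.Reps Cfsg.Agent.Nodes.BNOf
  Cfsg.Agent.Nodes.RGDChev Cfsg.Agent.Nodes.Bruhat Cfsg.Agent.Nodes.NormalForm
open Cfsg.Agent.KFacts.RgdField Cfsg.Agent.KFacts.RgdChevCoord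
open Cfsg.Agent.BpExc Cfsg.Agent.BpExc.TorCent Cfsg.Agent.BpExc.TorChev Cfsg.Agent.BpExc.Tow
  Cfsg.Agent.BpExc.TowChev Cfsg.Agent.BpExc.Fr Cfsg.Agent.BpExc.Pair Cfsg.Agent.BpExc.LangFr Cfsg.Agent.GpExc.Field
open Cfsg.Agent.H469.Exc

universe u v

theorem chk_sum : ∑ x : ZMod 11, x = 0 := by decide +kernel

theorem chk_sets : ∀ a : ZMod 11, a ≠ -a → ∃ x y z : ZMod 11, (x ≠ a ∧ x ≠ -a) ∧ (y ≠ a ∧ y ≠ -a) ∧ (z ≠ a ∧ z ≠ -a) ∧
    x ≠ y ∧ x ≠ z ∧ y ≠ z ∧ x + y + z = 0 := by decide +kernel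

theorem exists_three {X : Fin 9 → ZMod 11} (hX : Function.Injective X) (hs : ∑ i, X i = 0) :
    ∃ i j m, i ≠ j ∧ i ≠ m ∧ j ≠ m ∧ X i + X j + X m = 0 := by
  let T : Finset (ZMod 11) := Finset.univ.map ⟨X, hX⟩
  have hT : T.card = 9 := by rw [Finset.card_map, Finset.card_univ, Fintype.card_fin]
  have hTs : ∑ x ∈ T, x = 0 := by rw [Finset.sum_map]; exact hs
  have hc : Tᶜ.card = 2 := by rw [Finset.card_compl, hT, ZMod.card]
  obtain ⟨a, b, hab, e⟩ := Finset.card_eq_two.1 hc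
  have h1 : a + b = 0 := by
    have h2 := Finset.sum_add_sum_compl T (fun x : ZMod 11 => x)
    rw [chk_sum, hTs, zero_add, e, Finset.sum_pair hab] at h2
    exact h2
  have hb : b = -a := (neg_eq_of_add_eq_zero_right h1).symm
  rw [hb] at hab e
  have hmem : ∀ x : ZMod 11, x ≠ a ∧ x ≠ -a → ∃ i, X i = x := by
    rintro x ⟨h2, h3⟩
    have h4 : x ∈ T := by
      by_contra hx
      have h5 : x ∈ Tᶜ := Finset.mem_compl.2 hx
      rw [e, Finset.mem_insert, Finset.mem_singleton] at h5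
      exact h5.elim h2 h3
    obtain ⟨i, -, hi⟩ := Finset.mem_map.1 h4
    exact ⟨i, hi⟩
  obtain ⟨x, y, z, hx, hy, hz, hxy, hxz, hyz, h0⟩ := chk_sets a hab
  obtain ⟨i, rfl⟩ := hmem x hx
  obtain ⟨j, rfl⟩ := hmem y hy
  obtain ⟨m, rfl⟩ := hmem z hz
  exact ⟨i, j, m, fun h => hxy (by rw [h]), fun h => hxz (by rw [h]), fun h => hyz (by rw [h]), h0⟩

/-- the arithmetic -/
theorem arith {A : Fin 9 → ZMod 11} {B : ZMod 11} (hA : Function.Injective A) (h3 : 3 * B = ∑ i, A i)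
    (h : ∀ i j m, i ≠ j → i ≠ m → j ≠ m → A i + A j + A m ≠ B) : False := by
  have e33 : (33 : ZMod 11) = 0 := by decide
  obtain ⟨i, j, m, h1, h2, h4, h5⟩ := exists_three (X := fun i => A i + 7 * B) (fun i j hij => hA (add_right_cancel hij)) (by
    rw [Finset.sum_add_distrib, ← h3, Finset.sum_const, Finset.card_univ, Fintype.card_fin, nsmul_eq_mul]
    have : (3 : ZMod 11) * B + ((9 : ℕ) : ZMod 11) * (7 * B) = 33 * (2 * B) := by push_cast; ring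
    rw [this, e33, zero_mul])
  apply h i j m h1 h2 h4
  have h6 : A i + A j + A m = B - 22 * B := by linear_combination h5
  have e22 : (22 : ZMod 11) = 0 := by decide
  rw [h6, e22, zero_mul, sub_zero]

/-- partial sums of a chain of type `A₈`, the last root the lowest root -/
def v8 : Fin 9 → (Fin 8 → ℤ) :=
  ![![0, 0, 0, 0, 0, 0, 0, 0], ![1, 0, 0, 0, 0, 0, 0, 0], ![1, 0, 1, 0, 0, 0, 0, 0], ![1, 0, 1, 1, 0, 0, 0, 0],
    ![1, 0, 1, 1, 1, 0, 0, 0], ![1, 0, 1, 1, 1, 1, 0, 0], ![1, 0, 1, 1, 1, 1, 1, 0], ![1, 0, 1, 1, 1, 1, 1, 1],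
    ![-1, -3, -3, -5, -4, -3, -2, -1]]

def u8 : Fin 8 → ℤ := ![2, -1, 1, 0, 0, 0, 0, 0]

/-- the indices of the roots `v j - v i` -/
def iA : List (List ℕ) := [[0, 162, 163, 164, 165, 166, 167, 168, 14], [77, 0, 135, 136, 137, 138, 139, 140, 6],
  [76, 104, 0, 130, 131, 132, 133, 134, 5], [75, 103, 109, 0, 126, 127, 128, 129, 4], [74, 102, 108, 113, 0, 123,
  124, 125, 3], [73, 101, 107, 112, 116, 0, 121, 122, 2], [72, 100, 106, 111, 115, 118, 0, 120, 1], [71, 99, 105,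
  110, 114, 117, 119, 0, 0], [225, 233, 234, 235, 236, 237, 238, 239, 0]]

/-- the indices of the roots `v i + v j + v m - u` -/
def iB : List (List (List ℕ)) := [[[0, 0, 0, 0, 0, 0, 0, 0, 0], [0, 0, 141, 142, 143, 144, 145, 146, 7], [0, 0, 0,
  147, 148, 149, 150, 151, 8], [0, 0, 0, 0, 152, 153, 154, 155, 9], [0, 0, 0, 0, 0, 156, 157, 158, 10], [0, 0, 0, 0,
  0, 0, 159, 160, 11], [0, 0, 0, 0, 0, 0, 0, 161, 12], [0, 0, 0, 0, 0, 0, 0, 0, 13], [0, 0, 0, 0, 0, 0, 0, 0, 0]],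
  [[0, 0, 0, 0, 0, 0, 0, 0, 0], [0, 0, 0, 0, 0, 0, 0, 0, 0], [0, 0, 0, 169, 170, 171, 172, 173, 15], [0, 0, 0, 0,
  174, 175, 176, 177, 16], [0, 0, 0, 0, 0, 178, 179, 180, 17], [0, 0, 0, 0, 0, 0, 181, 182, 18], [0, 0, 0, 0, 0, 0,
  0, 183, 19], [0, 0, 0, 0, 0, 0, 0, 0, 20], [0, 0, 0, 0, 0, 0, 0, 0, 0]], [[0, 0, 0, 0, 0, 0, 0, 0, 0], [0, 0, 0,
  0, 0, 0, 0, 0, 0], [0, 0, 0, 0, 0, 0, 0, 0, 0], [0, 0, 0, 0, 184, 185, 186, 187, 21], [0, 0, 0, 0, 0, 188, 189,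
  190, 22], [0, 0, 0, 0, 0, 0, 191, 192, 23], [0, 0, 0, 0, 0, 0, 0, 193, 24], [0, 0, 0, 0, 0, 0, 0, 0, 25], [0, 0,
  0, 0, 0, 0, 0, 0, 0]], [[0, 0, 0, 0, 0, 0, 0, 0, 0], [0, 0, 0, 0, 0, 0, 0, 0, 0], [0, 0, 0, 0, 0, 0, 0, 0, 0], [0,
  0, 0, 0, 0, 0, 0, 0, 0], [0, 0, 0, 0, 0, 194, 195, 196, 26], [0, 0, 0, 0, 0, 0, 197, 198, 27], [0, 0, 0, 0, 0, 0,
  0, 199, 28], [0, 0, 0, 0, 0, 0, 0, 0, 29], [0, 0, 0, 0, 0, 0, 0, 0, 0]], [[0, 0, 0, 0, 0, 0, 0, 0, 0], [0, 0, 0,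
  0, 0, 0, 0, 0, 0], [0, 0, 0, 0, 0, 0, 0, 0, 0], [0, 0, 0, 0, 0, 0, 0, 0, 0], [0, 0, 0, 0, 0, 0, 0, 0, 0], [0, 0,
  0, 0, 0, 0, 200, 201, 30], [0, 0, 0, 0, 0, 0, 0, 202, 31], [0, 0, 0, 0, 0, 0, 0, 0, 32], [0, 0, 0, 0, 0, 0, 0, 0,
  0]], [[0, 0, 0, 0, 0, 0, 0, 0, 0], [0, 0, 0, 0, 0, 0, 0, 0, 0], [0, 0, 0, 0, 0, 0, 0, 0, 0], [0, 0, 0, 0, 0, 0, 0,
  0, 0], [0, 0, 0, 0, 0, 0, 0, 0, 0], [0, 0, 0, 0, 0, 0, 0, 0, 0], [0, 0, 0, 0, 0, 0, 0, 203, 33], [0, 0, 0, 0, 0,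
  0, 0, 0, 34], [0, 0, 0, 0, 0, 0, 0, 0, 0]], [[0, 0, 0, 0, 0, 0, 0, 0, 0], [0, 0, 0, 0, 0, 0, 0, 0, 0], [0, 0, 0,
  0, 0, 0, 0, 0, 0], [0, 0, 0, 0, 0, 0, 0, 0, 0], [0, 0, 0, 0, 0, 0, 0, 0, 0], [0, 0, 0, 0, 0, 0, 0, 0, 0], [0, 0,
  0, 0, 0, 0, 0, 0, 0], [0, 0, 0, 0, 0, 0, 0, 0, 35], [0, 0, 0, 0, 0, 0, 0, 0, 0]], [[0, 0, 0, 0, 0, 0, 0, 0, 0],
  [0, 0, 0, 0, 0, 0, 0, 0, 0], [0, 0, 0, 0, 0, 0, 0, 0, 0], [0, 0, 0, 0, 0, 0, 0, 0, 0], [0, 0, 0, 0, 0, 0, 0, 0,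
  0], [0, 0, 0, 0, 0, 0, 0, 0, 0], [0, 0, 0, 0, 0, 0, 0, 0, 0], [0, 0, 0, 0, 0, 0, 0, 0, 0], [0, 0, 0, 0, 0, 0, 0,
  0, 0]], [[0, 0, 0, 0, 0, 0, 0, 0, 0], [0, 0, 0, 0, 0, 0, 0, 0, 0], [0, 0, 0, 0, 0, 0, 0, 0, 0], [0, 0, 0, 0, 0, 0,
  0, 0, 0], [0, 0, 0, 0, 0, 0, 0, 0, 0], [0, 0, 0, 0, 0, 0, 0, 0, 0], [0, 0, 0, 0, 0, 0, 0, 0, 0], [0, 0, 0, 0, 0,
  0, 0, 0, 0], [0, 0, 0, 0, 0, 0, 0, 0, 0]]]

theorem chkA0 : ∀ i j : Fin 9, i ≠ j → (iA.getD i []).getD j 0 < chevE8.nroots ∧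
    vec chevE8 8 ((iA.getD i []).getD j 0) = v8 j - v8 i := by decide +kernel

theorem chkA (i j : Fin 9) (h : i ≠ j) : ∃ s < chevE8.nroots, vec chevE8 8 s = v8 j - v8 i :=
  ⟨_, (chkA0 i j h).1, (chkA0 i j h).2⟩

theorem chkB0 : ∀ i j m : Fin 9, i < j → j < m → ((iB.getD i []).getD j []).getD m 0 < chevE8.nroots ∧
    vec chevE8 8 (((iB.getD i []).getD j []).getD m 0) = v8 i + v8 j + v8 m - u8 := by decide +kernel

theorem chkB (i j m : Fin 9) (h : i < j) (h' : j < m) : ∃ s < chevE8.nroots, vec chevE8 8 s = v8 i + v8 j + v8 m - u8 :=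
  ⟨_, (chkB0 i j m h h').1, (chkB0 i j m h h').2⟩

theorem chkB' (i j m : Fin 9) (h1 : i ≠ j) (h2 : i ≠ m) (h3 : j ≠ m) :
    ∃ s < chevE8.nroots, vec chevE8 8 s = v8 i + v8 j + v8 m - u8 := by
  rcases lt_or_gt_of_ne h1 with h1 | h1 <;> rcases lt_or_gt_of_ne h2 with h2 | h2 <;>
    rcases lt_or_gt_of_ne h3 with h3 | h3
  · exact chkB i j m h1 h3
  · obtain ⟨s, hs, e⟩ := chkB i m j h2 h3
    exact ⟨s, hs, by rw [e]; abel⟩
  · exact absurd (h1.trans h3) (not_lt.2 h2.le)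
  · obtain ⟨s, hs, e⟩ := chkB m i j h2 h1
    exact ⟨s, hs, by rw [e]; abel⟩
  · obtain ⟨s, hs, e⟩ := chkB j i m h1 h2
    exact ⟨s, hs, by rw [e]; abel⟩
  · exact absurd (h1.trans h2) (not_lt.2 h3.le)
  · obtain ⟨s, hs, e⟩ := chkB j m i h3 h2
    exact ⟨s, hs, by rw [e]; abel⟩
  · obtain ⟨s, hs, e⟩ := chkB m j i h3 h1
    exact ⟨s, hs, by rw [e]; abel⟩

theorem chkS : (3 : ℤ) • u8 = ∑ i, v8 i := by decide +kernel

/-- **Torus elements of order 11 of `E₈` are not regular.** -/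
theorem sx_E8 (hp : IsType chevE8 8 CoxeterMatrix.E₈) {k : Type u} [Field k] {W : Type v} [Group W]
    (cs : CoxeterSystem CoxeterMatrix.E₈ W) {r : ℕ} [Fact r.Prime] [CharP k r] (hk : LocFin k)
    {t : ↥(chevE8.group k)} (ht : t ∈ TT chevE8 k) (ht11 : t ^ 11 = 1) :
    (Sx cs hp.isCartan (ch hp) t).Nonempty := by
  obtain ⟨φ, h0, hadd, hφ⟩ := chAddL (k := k) hp cs hk r t ht
  by_contra hcon
  have hroot : ∀ v : Fin 8 → ℤ, (∃ s < chevE8.nroots, vec chevE8 8 s = v) → φ v ^ 11 = 1 ∧ φ v ≠ 1 := by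
    intro v hv
    have ha := (isRoot_iff hp cs v).2 hv
    constructor
    · rw [← hφ v ha, ← ch_pow hp cs hk (r := r) ha ht, ht11]
      have := ch_pow hp cs hk (r := r) ha (one_mem (TT chevE8 k)) 0
      rwa [pow_zero, pow_zero] at this
    · intro h1
      exact hcon ⟨v, ha, by rw [hφ v ha]; exact h1⟩
  have hmul : ∀ a b c : Fin 8 → ℤ, a - b = c → φ a = φ c * φ b := by
    rintro a b c rfl
    rw [← hadd, sub_add_cancel]
  have e0 : v8 0 = 0 := by decide +kernel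
  have hv11 : ∀ i, φ (v8 i) ^ 11 = 1 := by
    intro i
    rcases eq_or_ne i 0 with rfl | hi
    · rw [e0, h0, one_pow]
    · have := (hroot _ (chkA 0 i (Ne.symm hi))).1
      rwa [e0, sub_zero] at this
  have hne0 : ∀ {x : k}, x ^ 11 = 1 → x ≠ 0 := by
    rintro x hx rfl
    rw [zero_pow (by norm_num)] at hx
    exact zero_ne_one hx
  have hu11 : φ u8 ^ 11 = 1 := by
    have h1 := (hroot _ (chkB' 0 1 2 (by decide) (by decide) (by decide)))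
    have h2 : φ (v8 0 + v8 1 + v8 2) = φ (v8 0 + v8 1 + v8 2 - u8) * φ u8 := by rw [← hadd, sub_add_cancel]
    rw [hadd, hadd] at h2
    have h3 : (φ (v8 0) * φ (v8 1) * φ (v8 2)) ^ 11 = 1 := by
      rw [mul_pow, mul_pow, hv11, hv11, hv11, mul_one, mul_one]
    rw [h2, mul_pow, h1.1, one_mul] at h3
    exact h3
  -- a primitive root of unity
  have hζ1 := hroot _ (chkA 0 1 (by decide))
  have hp11 : Fact (Nat.Prime 11) := ⟨by norm_num⟩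
  have hζ : IsPrimitiveRoot (φ (v8 1 - v8 0)) 11 := by
    rw [← orderOf_eq_prime hζ1.1 hζ1.2]
    exact IsPrimitiveRoot.orderOf _
  generalize φ (v8 1 - v8 0) = ζ at hζ
  have hlog : ∀ x : k, x ^ 11 = 1 → ∃ j : ℕ, x = ζ ^ j := by
    intro x hx
    obtain ⟨j, -, hj⟩ := hζ.eq_pow_of_pow_eq_one hx
    exact ⟨j, hj.symm⟩
  have heq : ∀ a b : ℕ, ζ ^ a = ζ ^ b ↔ (a : ZMod 11) = b := by
    intro a b
    rw [ZMod.natCast_eq_natCast_iff, pow_eq_pow_mod a hζ.pow_eq_one, pow_eq_pow_mod b hζ.pow_eq_one]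
    constructor
    · intro h
      exact hζ.pow_inj (Nat.mod_lt _ (by norm_num)) (Nat.mod_lt _ (by norm_num)) h
    · intro h
      have h' : a % 11 = b % 11 := h
      rw [h']
  choose a ha using fun i => hlog _ (hv11 i)
  obtain ⟨b, hb⟩ := hlog _ hu11
  refine arith (A := fun i => (a i : ZMod 11)) (B := (b : ZMod 11)) ?_ ?_ ?_
  · intro i j hij
    by_contra hne
    have h1 : φ (v8 j) = φ (v8 j - v8 i) * φ (v8 i) := by rw [← hadd, sub_add_cancel]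
    have h2 : φ (v8 i) = φ (v8 j) := by
      rw [ha i, ha j]
      exact (heq _ _).2 hij
    rw [h2] at h1
    exact (hroot _ (chkA i j hne)).2 ((mul_eq_right₀ (hne0 (hv11 j))).1 h1.symm)
  · have h1 : φ ((3 : ℤ) • u8) = φ u8 ^ 3 := by
      have : (3 : ℤ) • u8 = u8 + u8 + u8 := by
        rw [show (3 : ℤ) = 1 + 1 + 1 by norm_num, add_smul, add_smul, one_smul]
      rw [this, hadd, hadd]
      ring
    have h2 : ∀ s : Finset (Fin 9), φ (∑ i ∈ s, v8 i) = ζ ^ ∑ i ∈ s, a i := by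
      intro s
      induction s using Finset.induction_on with
      | empty => rw [Finset.sum_empty, Finset.sum_empty, h0, pow_zero]
      | insert i s hi ih => rw [Finset.sum_insert hi, Finset.sum_insert hi, hadd, ih, ha i, pow_add]
    rw [chkS, h2, hb, ← pow_mul] at h1
    have h3 := (heq _ _).1 h1.symm
    push_cast at h3
    rw [mul_comm]
    exact h3
  · intro i j m hij him hjm hc
    have h1 := (hroot _ (chkB' i j m hij him hjm)).2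
    have h2 : φ (v8 i + v8 j + v8 m) = φ (v8 i + v8 j + v8 m - u8) * φ u8 := by rw [← hadd, sub_add_cancel]
    rw [hadd, hadd] at h2
    have h3 : φ (v8 i) * φ (v8 j) * φ (v8 m) = φ u8 := by
      rw [ha i, ha j, ha m, hb, ← pow_add, ← pow_add]
      refine (heq _ _).2 ?_
      push_cast
      exact hc
    rw [h3] at h2
    exact h1 ((mul_eq_right₀ (hne0 hu11)).1 h2.symm)

end Cfsg.Agent.H892.El
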