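import Mathlib

/-!
# Fixed points and centralizers

* `card_le_fixed` : `|X| ≤ |Fix x| |X ∩ G_ω|` if `X` centralises `x` and `x` fixes `ω`;
* `exists_large_centralizer` : in a finite group with an involution there is `t ≠ 1` with `|T| ≤ |C(t)| ^ 3`
  (Brauer-Fowler).
-/

set_option autoImplicit false

namespace Cfsg.Agent.H892.PrimA

open Subgroup MulAction

theorem card_le_fixed {G Ω : Type*} [Group G] [Finite G] [MulAction G Ω] [Finite Ω] {x : G} {ω : Ω}
    (hx : x • ω = ω) (X : Subgroup G) (hX : ∀ g ∈ X, x * g = g * x) :
    Nat.card X ≤ Nat.card (fixedBy Ω x) * Nat.card ↥(X ⊓ stabilizer G ω) := by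
  have h1 : Nat.card (orbit X ω) * Nat.card (stabilizer X ω) = Nat.card X := by
    classical
    have := Fintype.ofFinite X
    have := Fintype.ofFinite (orbit X ω)
    have := Fintype.ofFinite (stabilizer X ω)
    rw [Nat.card_eq_fintype_card, Nat.card_eq_fintype_card, Nat.card_eq_fintype_card]
    exact card_orbit_mul_card_stabilizer_eq_card_group X ω
  have h2 : Nat.card (orbit X ω) ≤ Nat.card (fixedBy Ω x) := by
    apply Nat.card_mono (Set.toFinite _)
    rintro _ ⟨g, rfl⟩
    rw [mem_fixedBy]
    change x • ((g : G) • ω) = (g : G) • ω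
    rw [← mul_smul, hX g g.2, mul_smul, hx]
  have h3 : Nat.card (stabilizer X ω) ≤ Nat.card ↥(X ⊓ stabilizer G ω) := by
    refine Nat.card_le_card_of_injective (fun g => ⟨((g : X) : G), (g : X).2, ?_⟩) ?_
    · have := g.2
      exact this
    · intro a b hab
      apply Subtype.ext
      apply Subtype.ext
      exact congrArg (fun z : ↥(X ⊓ stabilizer G ω) => (z : G)) hab
  rw [← h1]
  exact Nat.mul_le_mul h2 h3

theorem arith {N m c : ℕ} (hc : 1 ≤ c) (hN : 1 ≤ N) (h1 : N ≤ m * c) (h2 : m * m ≤ m + (N - 1) * c) : N ≤ c ^ 3 := by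
  have h3 : m ≤ c * c := by
    by_contra hcon
    push Not at hcon
    have h4 : (N - 1) * c + c ≤ m * c * c := by
      calc (N - 1) * c + c = (N - 1 + 1) * c := by ring
        _ = N * c := by rw [Nat.sub_add_cancel hN]
        _ ≤ m * c * c := Nat.mul_le_mul_right c h1
    nlinarith
  calc N ≤ m * c := h1
    _ ≤ c * c * c := Nat.mul_le_mul_right c h3
    _ = c ^ 3 := by ring

theorem exists_large_centralizer {T : Type*} [Group T] [Finite T] {s : T} (hs : orderOf s = 2) :
    ∃ t : T, t ≠ 1 ∧ Nat.card T ≤ Nat.card (centralizer ({t} : Set T)) ^ 3 := by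
  classical
  have := Fintype.ofFinite T
  have hss : s * s = 1 := by
    have := pow_orderOf_eq_one s
    rwa [hs, pow_two] at this
  have hs1 : s ≠ 1 := by
    rintro rfl
    rw [orderOf_one] at hs
    norm_num at hs
  obtain ⟨t, ht, hmax⟩ := Finset.exists_max_image (Finset.univ.filter (fun x : T => x ≠ 1))
    (fun t => Nat.card (centralizer ({t} : Set T))) ⟨s, by simp [hs1]⟩
  rw [Finset.mem_filter] at ht
  refine ⟨t, ht.2, ?_⟩
  set c := Nat.card (centralizer ({t} : Set T)) with hc
  have hmax' : ∀ x : T, x ≠ 1 → Nat.card (centralizer ({x} : Set T)) ≤ c := fun x hx =>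
    hmax x (by simp [hx])
  have hconj : ∀ g x : T, ∀ S : Finset T, g ≠ 1 → (∀ y ∈ S, y * g * y⁻¹ = x) → S.card ≤ c := by
    intro g x S hg hS
    rcases S.eq_empty_or_nonempty with h | ⟨x0, hx0⟩
    · rw [h]
      simp
    · refine le_trans ?_ (hmax' g hg)
      rw [← Nat.card_eq_finsetCard]
      refine Nat.card_le_card_of_injective (fun y : S => ⟨x0⁻¹ * y, ?_⟩) ?_
      · rw [mem_centralizer_singleton_iff]
        have h1 := hS x0 hx0
        have h2 := hS y y.2
        rw [← h1] at h2
        calc x0⁻¹ * (y : T) * g = x0⁻¹ * ((y : T) * g * (y : T)⁻¹) * y := by group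
          _ = g * (x0⁻¹ * y) := by rw [h2]; group
      · intro a b hab
        have h3 := congrArg (fun z : centralizer ({g} : Set T) => (z : T)) hab
        exact Subtype.ext (mul_left_cancel h3)
  set I : Finset T := Finset.univ.filter (fun x : T => x * x = 1 ∧ x ≠ 1) with hI
  have hcard : Nat.card T = (Finset.univ : Finset T).card := by rw [Nat.card_eq_fintype_card, Finset.card_univ]
  apply arith (m := I.card)
  · exact Nat.card_pos
  · exact Nat.card_pos
  · have h1 := Finset.card_le_mul_card_image (s := (Finset.univ : Finset T)) (f := fun g => g * s * g⁻¹) c (by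
      intro b _
      exact hconj s b _ hs1 (by
        intro y hy
        rw [Finset.mem_filter] at hy
        exact hy.2))
    rw [hcard, mul_comm]
    refine h1.trans (Nat.mul_le_mul_left c (Finset.card_le_card ?_))
    intro y hy
    rw [Finset.mem_image] at hy
    obtain ⟨g, -, rfl⟩ := hy
    rw [hI, Finset.mem_filter]
    refine ⟨Finset.mem_univ _, ?_, ?_⟩
    · calc g * s * g⁻¹ * (g * s * g⁻¹) = g * (s * s) * g⁻¹ := by group
        _ = 1 := by rw [hss]; group
    · intro h
      apply hs1
      calc s = g⁻¹ * (g * s * g⁻¹) * g := by group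
        _ = 1 := by rw [h]; group
  · have h1 : I.card * I.card = ∑ g : T, ((I ×ˢ I).filter (fun p => p.1 * p.2 = g)).card := by
      rw [← Finset.card_product]
      exact Finset.card_eq_sum_card_fiberwise (fun _ _ => Finset.mem_univ _)
    rw [h1, ← Finset.add_sum_erase _ _ (Finset.mem_univ (1 : T))]
    apply Nat.add_le_add
    · apply Finset.card_le_card_of_injOn (fun p => p.1)
      · intro p hp
        rw [Finset.mem_coe, Finset.mem_filter, Finset.mem_product] at hp
        exact hp.1.1
      · intro p hp q hq hpq
        rw [Finset.mem_coe, Finset.mem_filter] at hp hq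
        have h2 : p.1 = q.1 := hpq
        apply Prod.ext h2
        have h3 := hp.2.trans hq.2.symm
        rw [h2] at h3
        exact mul_left_cancel h3
    · calc ∑ g ∈ Finset.univ.erase (1 : T), ((I ×ˢ I).filter (fun p => p.1 * p.2 = g)).card
          ≤ ∑ g ∈ Finset.univ.erase (1 : T), c := by
            apply Finset.sum_le_sum
            intro g hg
            have hg1 : g ≠ 1 := (Finset.mem_erase.1 hg).1
            refine le_trans (Finset.card_le_card_of_injOn (t := Finset.univ.filter (fun x : T => x * g * x⁻¹ = g⁻¹))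
              (fun p => p.1) ?_ ?_) (hconj g g⁻¹ _ hg1 (by
                intro y hy
                rw [Finset.mem_filter] at hy
                exact hy.2))
            · intro p hp
              rw [Finset.mem_coe, Finset.mem_filter, Finset.mem_product] at hp
              rw [Finset.mem_coe, Finset.mem_filter]
              refine ⟨Finset.mem_univ _, ?_⟩
              obtain ⟨⟨h2, h3⟩, h4⟩ := hp
              rw [hI, Finset.mem_filter] at h2 h3
              have h5 : p.1⁻¹ = p.1 := inv_eq_of_mul_eq_one_left h2.2.1
              have h6 : p.2⁻¹ = p.2 := inv_eq_of_mul_eq_one_left h3.2.1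
              rw [← h4, mul_inv_rev, h5, h6, ← mul_assoc, h2.2.1, one_mul]
            · intro p hp q hq hpq
              rw [Finset.mem_coe, Finset.mem_filter] at hp hq
              have h2 : p.1 = q.1 := hpq
              apply Prod.ext h2
              have h3 := hp.2.trans hq.2.symm
              rw [h2] at h3
              exact mul_left_cancel h3
        _ = (Nat.card T - 1) * c := by
            rw [Finset.sum_const, Finset.card_erase_of_mem (Finset.mem_univ _), smul_eq_mul, hcard]

end Cfsg.Agent.H892.PrimA
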