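import Mathlib
import Cfsg.Agent.H892.PrimA

/-!
# Fixed points of elements of a socle `T ^ m`: product and diagonal stabilizers
-/

set_option autoImplicit false

namespace Cfsg.Agent.H892.PrimB

open Subgroup MulAction Cfsg.Agent.H892.PrimA

section
variable {G T : Type*} [Group G] [Group T] {m : ℕ} {N : Subgroup G}

/-- the elements of `N` with coordinates in `H i` -/
def XX (e : N ≃* (Fin m → T)) (H : Fin m → Subgroup T) : Subgroup G :=
  ((Subgroup.pi Set.univ H).comap e.toMonoidHom).map N.subtype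

theorem mem_XX {e : N ≃* (Fin m → T)} {H : Fin m → Subgroup T} {g : G} :
    g ∈ XX e H ↔ ∃ h : g ∈ N, ∀ i, e ⟨g, h⟩ i ∈ H i := by
  constructor
  · rintro ⟨n, hn, rfl⟩
    refine ⟨n.2, fun i => ?_⟩
    exact hn i trivial
  · rintro ⟨h, hi⟩
    exact ⟨⟨g, h⟩, fun i _ => hi i, rfl⟩

theorem card_XX (e : N ≃* (Fin m → T)) (H : Fin m → Subgroup T) : Nat.card (XX e H) = ∏ i, Nat.card (H i) := by
  rw [← Nat.card_pi]
  refine Nat.card_congr
    { toFun := fun g i => ⟨e ⟨g, (mem_XX.1 g.2).1⟩ i, (mem_XX.1 g.2).2 i⟩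
      invFun := fun f => ⟨(e.symm (fun i => (f i : T)) : N), mem_XX.2 ⟨(e.symm (fun i => (f i : T))).2, fun i => by
        have : e ⟨((e.symm (fun i => (f i : T)) : N) : G), (e.symm (fun i => (f i : T))).2⟩ = fun i => (f i : T) :=
          e.apply_symm_apply _
        rw [this]
        exact (f i).2⟩⟩
      left_inv := ?_
      right_inv := ?_ }
  · intro g
    apply Subtype.ext
    change ((e.symm (e ⟨g, (mem_XX.1 g.2).1⟩) : N) : G) = g
    rw [e.symm_apply_apply]
  · intro f
    funext i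
    apply Subtype.ext
    change e (e.symm (fun i => (f i : T))) i = f i
    rw [e.apply_symm_apply]

theorem XX_top (e : N ≃* (Fin m → T)) : XX e (fun _ => ⊤) = N := by
  ext g
  rw [mem_XX]
  exact ⟨fun h => h.1, fun h => ⟨h, fun _ => trivial⟩⟩

theorem XX_comm (e : N ≃* (Fin m → T)) (H : Fin m → Subgroup T) (f : Fin m → T) (hf : ∀ i, ∀ t ∈ H i, f i * t = t * f i)
    {g : G} (hg : g ∈ XX e H) : ((e.symm f : N) : G) * g = g * (e.symm f : N) := by
  obtain ⟨h, hi⟩ := mem_XX.1 hg
  have h1 : e.symm f * ⟨g, h⟩ = ⟨g, h⟩ * e.symm f := by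
    apply e.injective
    rw [map_mul, map_mul, e.apply_symm_apply]
    funext i
    exact hf i _ (hi i)
  exact congrArg Subtype.val h1

/-- the elements of `N` with coordinates constant on the fibers of `c`, in `H (c i)` -/
theorem card_XK (e : N ≃* (Fin m → T)) (c : Fin m → Fin m) (H : Fin m → Subgroup T) (K : Subgroup G)
    (hK : ∀ n : N, (n : G) ∈ K ↔ ∀ i j : Fin m, c i = c j → e n i = e n j) :
    Nat.card ↥(XX e (fun i => H (c i)) ⊓ K) = ∏ j ∈ Finset.univ.image c, Nat.card (H j) := by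
  classical
  rw [← Finset.prod_coe_sort (Finset.univ.image c) (fun j => Nat.card (H j)), ← Nat.card_pi]
  have hex : ∀ j : (Finset.univ.image c), ∃ i, c i = j := by
    intro j
    obtain ⟨i, -, hi⟩ := Finset.mem_image.1 j.2
    exact ⟨i, hi⟩
  choose r hr using hex
  have hci : ∀ i, c i ∈ Finset.univ.image c := fun i => Finset.mem_image_of_mem c (Finset.mem_univ i)
  have hx : ∀ f : ((j : (Finset.univ.image c)) → H j), ((e.symm (fun i => (f ⟨c i, hci i⟩ : T)) : N) : G) ∈
      XX e (fun i => H (c i)) ⊓ K := by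
    intro f
    constructor
    · refine mem_XX.2 ⟨(e.symm (fun i => (f ⟨c i, hci i⟩ : T))).2, fun i => ?_⟩
      have : e ⟨((e.symm (fun i => (f ⟨c i, hci i⟩ : T)) : N) : G), (e.symm (fun i => (f ⟨c i, hci i⟩ : T))).2⟩ =
        fun i => (f ⟨c i, hci i⟩ : T) := e.apply_symm_apply _
      rw [this]
      exact (f ⟨c i, hci i⟩).2
    · change _ ∈ K
      rw [hK, e.apply_symm_apply]
      intro i j hij
      have h1 : (⟨c i, hci i⟩ : (Finset.univ.image c)) = ⟨c j, hci j⟩ := Subtype.ext hij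
      have key : ∀ a b : (Finset.univ.image c), a = b → (f a : T) = (f b : T) := by
        rintro a _ rfl
        rfl
      exact key _ _ h1
  refine Nat.card_congr
    { toFun := fun g j => ⟨e ⟨g, (mem_XX.1 g.2.1).1⟩ (r j), by
        have h1 := (mem_XX.1 g.2.1).2 (r j)
        rwa [hr j] at h1⟩
      invFun := fun f => ⟨((e.symm (fun i => (f ⟨c i, hci i⟩ : T)) : N) : G), hx f⟩
      left_inv := ?_
      right_inv := ?_ }
  · intro g
    apply Subtype.ext
    have h1 := (hK ⟨g, (mem_XX.1 g.2.1).1⟩).1 g.2.2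
    have h2 : (fun i => e ⟨g, (mem_XX.1 g.2.1).1⟩ (r ⟨c i, hci i⟩)) = e ⟨g, (mem_XX.1 g.2.1).1⟩ := by
      funext i
      exact h1 _ _ (hr ⟨c i, hci i⟩)
    change ((e.symm (fun i => e ⟨g, (mem_XX.1 g.2.1).1⟩ (r ⟨c i, hci i⟩)) : N) : G) = g
    rw [h2, e.symm_apply_apply]
  · intro f
    funext j
    apply Subtype.ext
    change e (e.symm (fun i => (f ⟨c i, hci i⟩ : T))) (r j) = f j
    rw [e.apply_symm_apply]
    have h1 : (⟨c (r j), hci (r j)⟩ : (Finset.univ.image c)) = j := Subtype.ext (hr j)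
    have key : ∀ a b : (Finset.univ.image c), a = b → (f a : T) = (f b : T) := by
      rintro a _ rfl
      rfl
    exact key _ _ h1

theorem prod_fibers (c : Fin m → Fin m) {k : ℕ}
    (hc : ∀ j : Fin m, Nat.card {i : Fin m // c i = j} = k ∨ Nat.card {i : Fin m // c i = j} = 0) (a : Fin m → ℕ) :
    ∏ i, a (c i) = (∏ j ∈ Finset.univ.image c, a j) ^ k := by
  classical
  rw [Finset.prod_comp, ← Finset.prod_pow]
  apply Finset.prod_congr rfl
  intro j hj
  obtain ⟨i, -, hi⟩ := Finset.mem_image.1 hj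
  congr 1
  rcases hc j with h | h
  · rw [← h, Nat.card_eq_fintype_card, Fintype.card_subtype]
  · exfalso
    have : Nonempty {i : Fin m // c i = j} := ⟨⟨i, hi⟩⟩
    exact (Nat.card_pos (α := {i : Fin m // c i = j})).ne' h

end

theorem card_transitive {G Ω : Type*} [Group G] [Finite G] [MulAction G Ω] [Finite Ω] {N : Subgroup G}
    (htr : IsPretransitive N Ω) (ω : Ω) : Nat.card Ω * Nat.card ↥(N ⊓ stabilizer G ω) = Nat.card N := by
  classical
  have h1 : Nat.card (orbit N ω) * Nat.card (stabilizer N ω) = Nat.card N := by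
    have := Fintype.ofFinite N
    have := Fintype.ofFinite (orbit N ω)
    have := Fintype.ofFinite (stabilizer N ω)
    rw [Nat.card_eq_fintype_card, Nat.card_eq_fintype_card, Nat.card_eq_fintype_card]
    exact card_orbit_mul_card_stabilizer_eq_card_group N ω
  have h2 : Nat.card (orbit N ω) = Nat.card Ω := by
    rw [orbit_eq_univ, Nat.card_univ]
  have h3 : Nat.card (stabilizer N ω) = Nat.card ↥(N ⊓ stabilizer G ω) := by
    refine Nat.card_congr
      { toFun := fun g => ⟨((g : N) : G), (g : N).2, g.2⟩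
        invFun := fun g => ⟨⟨g, g.2.1⟩, g.2.2⟩
        left_inv := fun _ => rfl
        right_inv := fun _ => rfl }
  rw [← h2, ← h3, h1]

section
variable {G Ω T : Type*} [Group G] [Finite G] [MulAction G Ω] [Finite Ω] [Group T] [Finite T] {m : ℕ} {N : Subgroup G}

theorem caseTwo (e : N ≃* (Fin m → T)) (htr : IsPretransitive N Ω) (ω : Ω) {k : ℕ} (c : Fin m → Fin m) (hk : 2 ≤ k)
    (hc : ∀ j : Fin m, Nat.card {i : Fin m // c i = j} = k ∨ Nat.card {i : Fin m // c i = j} = 0) (hm : 0 < m)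
    (hK : ∀ n : N, (n : G) ∈ stabilizer G ω ↔ ∀ i j : Fin m, c i = c j → e n i = e n j) {t : T} (ht : t ≠ 1)
    (htc : Nat.card T ≤ Nat.card (centralizer ({t} : Set T)) ^ 3) :
    ∃ g : G, g ≠ 1 ∧ Nat.card Ω ≤ Nat.card (fixedBy Ω g) ^ 3 := by
  classical
  set j0 := c ⟨0, hm⟩ with hj0
  have hj0m : j0 ∈ Finset.univ.image c := Finset.mem_image_of_mem c (Finset.mem_univ _)
  -- the whole group
  set w := ∏ j ∈ Finset.univ.image c, Nat.card (⊤ : Subgroup T) with hw
  have h1 : Nat.card ↥(N ⊓ stabilizer G ω) = w := by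
    have := card_XK e c (fun _ => ⊤) _ hK
    rwa [XX_top] at this
  have h2 : Nat.card N = w ^ k := by
    have h3 := card_XX e (fun _ => ⊤)
    rw [XX_top] at h3
    rw [h3]
    exact prod_fibers c hc (fun _ => Nat.card (⊤ : Subgroup T))
  have hwpos : 0 < w := by
    rw [← h1]
    exact Nat.card_pos
  have h3 : Nat.card Ω = w ^ (k - 1) := by
    have h4 := card_transitive htr ω
    rw [h1, h2] at h4
    have h5 : w ^ k = w ^ (k - 1) * w := by
      rw [← pow_succ]
      congr 1
      omega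
    rw [h5] at h4
    exact Nat.eq_of_mul_eq_mul_right hwpos h4
  -- the element
  set f : Fin m → T := fun i => if c i = j0 then t else 1 with hf
  set H : Fin m → Subgroup T := fun j => if j = j0 then centralizer ({t} : Set T) else ⊤ with hH
  set X := XX e (fun i => H (c i)) with hX
  set x : G := ((e.symm f : N) : G) with hx
  have hxK : x ∈ stabilizer G ω := by
    rw [hx, hK, e.apply_symm_apply]
    intro i j hij
    rw [hf]
    simp only
    rw [hij]
  have hx1 : x ≠ 1 := by
    intro h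
    have h5 : e.symm f = 1 := Subtype.ext h
    have h6 : f = 1 := by
      rw [← e.apply_symm_apply f, h5, map_one]
    have h7 := congrFun h6 ⟨0, hm⟩
    rw [hf] at h7
    simp only [← hj0, if_true] at h7
    exact ht h7
  have hcomm : ∀ g ∈ X, x * g = g * x := by
    intro g hg
    refine XX_comm e _ f ?_ hg
    intro i s hs
    rw [hf]
    simp only
    rw [hH] at hs
    simp only at hs
    split_ifs at hs ⊢ with hi
    · exact (mem_centralizer_singleton_iff.1 hs).symm
    · rw [one_mul, mul_one]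
  have h4 := card_le_fixed (mem_stabilizer_iff.1 hxK) X hcomm
  set y := Nat.card ↥(X ⊓ stabilizer G ω) with hy
  have h5 : y = ∏ j ∈ Finset.univ.image c, Nat.card (H j) := card_XK e c H _ hK
  have h6 : Nat.card X = y ^ k := by
    rw [hX, card_XX, h5]
    exact prod_fibers c hc (fun j => Nat.card (H j))
  have hypos : 0 < y := Nat.card_pos
  have h7 : y ^ (k - 1) ≤ Nat.card (fixedBy Ω x) := by
    rw [h6] at h4
    have h8 : y ^ k = y ^ (k - 1) * y := by
      rw [← pow_succ]
      congr 1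
      omega
    rw [h8] at h4
    exact Nat.le_of_mul_le_mul_right h4 hypos
  have h8 : w ≤ y ^ 3 := by
    rw [h5, hw, ← Finset.mul_prod_erase _ _ hj0m, ← Finset.mul_prod_erase _ _ hj0m]
    have h9 : ∏ j ∈ (Finset.univ.image c).erase j0, Nat.card (H j) =
        ∏ j ∈ (Finset.univ.image c).erase j0, Nat.card (⊤ : Subgroup T) := by
      apply Finset.prod_congr rfl
      intro j hj
      have hj' : j ≠ j0 := (Finset.mem_erase.1 hj).1
      rw [hH]
      simp only [if_neg hj']
    have h10 : Nat.card (H j0) = Nat.card (centralizer ({t} : Set T)) := by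
      rw [hH]
      simp only [if_true]
    rw [h9, h10, mul_pow]
    set a := ∏ j ∈ (Finset.univ.image c).erase j0, Nat.card (⊤ : Subgroup T) with ha
    have hapos : 0 < a := Finset.prod_pos (fun _ _ => Nat.card_pos)
    apply Nat.mul_le_mul
    · rw [Subgroup.card_top]
      exact htc
    · exact Nat.le_self_pow (by norm_num) a
  refine ⟨x, hx1, ?_⟩
  rw [h3]
  calc w ^ (k - 1) ≤ (y ^ 3) ^ (k - 1) := Nat.pow_le_pow_left h8 _
    _ = (y ^ (k - 1)) ^ 3 := by rw [← pow_mul, ← pow_mul, mul_comm]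
    _ ≤ Nat.card (fixedBy Ω x) ^ 3 := Nat.pow_le_pow_left h7 3

theorem caseOne (e : N ≃* (Fin m → T)) (htr : IsPretransitive N Ω) (ω : Ω) (L : Fin m → Subgroup T)
    (hK : ∀ n : N, (n : G) ∈ stabilizer G ω ↔ ∀ i, e n i ∈ L i) {i0 : Fin m} (hi0 : L i0 ≠ ⊥) (hm : 2 ≤ m) :
    ∃ g : G, g ≠ 1 ∧ Nat.card Ω ≤ Nat.card (fixedBy Ω g) ^ 3 := by
  classical
  obtain ⟨i, -, hmin⟩ := Finset.exists_min_image (Finset.univ : Finset (Fin m)) (fun i => (L i).index) ⟨i0, Finset.mem_univ _⟩
  have hLi : L i ≠ ⊥ := by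
    intro h
    have h1 := hmin i0 (Finset.mem_univ _)
    rw [h, index_bot] at h1
    have h2 := card_mul_index (L i0)
    have h3 : 1 < Nat.card (L i0) := by
      rw [Finite.one_lt_card_iff_nontrivial]
      exact (Subgroup.nontrivial_iff_ne_bot _).2 hi0
    have h4 : 0 < (L i0).index := Nat.pos_of_ne_zero index_ne_zero_of_finite
    nlinarith
  obtain ⟨t, htL, ht⟩ : ∃ t ∈ L i, t ≠ 1 := by
    by_contra hcon
    push Not at hcon
    exact hLi (eq_bot_iff.2 (fun t ht => hcon t ht))
  -- cardinalities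
  have hNK : Nat.card ↥(N ⊓ stabilizer G ω) = ∏ j, Nat.card (L j) := by
    have h1 : N ⊓ stabilizer G ω = XX e L := by
      ext g
      rw [mem_XX]
      constructor
      · rintro ⟨h1, h2⟩
        exact ⟨h1, (hK ⟨g, h1⟩).1 h2⟩
      · rintro ⟨h1, h2⟩
        exact ⟨h1, (hK ⟨g, h1⟩).2 h2⟩
    rw [h1, card_XX]
  have hN : Nat.card N = ∏ _j : Fin m, Nat.card T := by
    have h3 := card_XX e (fun _ => ⊤)
    rw [XX_top] at h3
    rw [h3, Subgroup.card_top]
  have hΩ : Nat.card Ω = ∏ j, (L j).index := by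
    have h4 := card_transitive htr ω
    rw [hNK, hN] at h4
    have h5 : ∏ _j : Fin m, Nat.card T = (∏ j, (L j).index) * ∏ j, Nat.card (L j) := by
      rw [← Finset.prod_mul_distrib]
      apply Finset.prod_congr rfl
      intro j _
      rw [mul_comm, card_mul_index]
    rw [h5] at h4
    exact Nat.eq_of_mul_eq_mul_right (Finset.prod_pos (fun _ _ => Nat.card_pos)) h4
  set x : G := ((e.symm (Pi.mulSingle i t) : N) : G) with hx
  have hxK : x ∈ stabilizer G ω := by
    rw [hx, hK, e.apply_symm_apply]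
    intro j
    by_cases hj : j = i
    · subst hj
      rw [Pi.mulSingle_eq_same]
      exact htL
    · rw [Pi.mulSingle_eq_of_ne hj]
      exact one_mem _
  have hx1 : x ≠ 1 := by
    intro h
    have h5 : e.symm (Pi.mulSingle i t) = 1 := Subtype.ext h
    have h6 : (Pi.mulSingle i t : Fin m → T) = 1 := by
      rw [← e.apply_symm_apply (Pi.mulSingle i t), h5, map_one]
    have h7 := congrFun h6 i
    rw [Pi.mulSingle_eq_same] at h7
    exact ht h7
  set H : Fin m → Subgroup T := fun j => if j = i then ⊥ else ⊤ with hH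
  set X := XX e H with hX
  have hcomm : ∀ g ∈ X, x * g = g * x := by
    intro g hg
    refine XX_comm e _ _ ?_ hg
    intro j s hs
    rw [hH] at hs
    simp only at hs
    split_ifs at hs with hj
    · rw [mem_bot] at hs
      rw [hs, one_mul, mul_one]
    · rw [Pi.mulSingle_eq_of_ne hj, one_mul, mul_one]
  have h4 := card_le_fixed (mem_stabilizer_iff.1 hxK) X hcomm
  have hXK : Nat.card ↥(X ⊓ stabilizer G ω) = ∏ j, Nat.card ↥(H j ⊓ L j) := by
    have h1 : X ⊓ stabilizer G ω = XX e (fun j => H j ⊓ L j) := by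
      ext g
      rw [mem_XX]
      constructor
      · rintro ⟨h1, h2⟩
        obtain ⟨h3, h5⟩ := mem_XX.1 h1
        exact ⟨h3, fun j => ⟨h5 j, (hK ⟨g, h3⟩).1 h2 j⟩⟩
      · rintro ⟨h1, h2⟩
        exact ⟨mem_XX.2 ⟨h1, fun j => (h2 j).1⟩, (hK ⟨g, h1⟩).2 (fun j => (h2 j).2)⟩
    rw [h1, card_XX]
  set a := ∏ j ∈ Finset.univ.erase i, (L j).index with ha
  have h5 : a ≤ Nat.card (fixedBy Ω x) := by
    rw [hXK, hX, card_XX, ← Finset.mul_prod_erase _ _ (Finset.mem_univ i),
      ← Finset.mul_prod_erase _ _ (Finset.mem_univ i)] at h4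
    have h6 : Nat.card (H i) = 1 := by
      rw [hH]
      simp only [if_true]
      exact Subgroup.card_bot
    have h7 : Nat.card ↥(H i ⊓ L i) = 1 := by
      rw [hH]
      simp only [if_true, bot_inf_eq]
      exact Subgroup.card_bot
    have h8 : ∏ j ∈ Finset.univ.erase i, Nat.card ↥(H j ⊓ L j) = ∏ j ∈ Finset.univ.erase i, Nat.card (L j) := by
      apply Finset.prod_congr rfl
      intro j hj
      rw [hH]
      simp only [if_neg (Finset.mem_erase.1 hj).1, top_inf_eq]
    have h9 : ∏ j ∈ Finset.univ.erase i, Nat.card (H j) = a * ∏ j ∈ Finset.univ.erase i, Nat.card (L j) := by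
      rw [ha, ← Finset.prod_mul_distrib]
      apply Finset.prod_congr rfl
      intro j hj
      rw [hH]
      simp only [if_neg (Finset.mem_erase.1 hj).1]
      rw [Subgroup.card_top, mul_comm, card_mul_index]
    rw [h6, h7, h8, h9, one_mul, one_mul] at h4
    exact Nat.le_of_mul_le_mul_right h4 (Finset.prod_pos (fun _ _ => Nat.card_pos))
  have hapos : 0 < a := Finset.prod_pos (fun _ _ => Nat.pos_of_ne_zero index_ne_zero_of_finite)
  obtain ⟨j, hj⟩ : ∃ j : Fin m, j ≠ i := by
    have : Nontrivial (Fin m) := Fin.nontrivial_iff_two_le.2 hm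
    exact exists_ne i
  have h6 : (L i).index ≤ a := by
    refine (hmin j (Finset.mem_univ _)).trans ?_
    exact Nat.le_of_dvd hapos (Finset.dvd_prod_of_mem _ (Finset.mem_erase.2 ⟨hj, Finset.mem_univ _⟩))
  refine ⟨x, hx1, ?_⟩
  rw [hΩ, ← Finset.mul_prod_erase _ _ (Finset.mem_univ i)]
  calc (L i).index * a ≤ a * a := Nat.mul_le_mul_right a h6
    _ = a ^ 2 := by ring
    _ ≤ a ^ 3 := Nat.pow_le_pow_right hapos (by norm_num)
    _ ≤ Nat.card (fixedBy Ω x) ^ 3 := Nat.pow_le_pow_left h5 3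

end

end Cfsg.Agent.H892.PrimB
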