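import Mathlib
import Cfsg.Agent.S0023
import Cfsg.Agent.S0024
import Cfsg.Agent.Lib.SolvableNormalP
import Cfsg.Agent.H892.GroupB

/-!
# The point stabilizer of a primitive group with a regular non-abelian minimal normal subgroup has even order
-/

set_option autoImplicit false

namespace Cfsg.Agent.H892.PrimD

open Subgroup Cfsg.Agent.H892.GroupB
open scoped Pointwise commutatorElement

universe u

variable {G : Type u} [Group G] [Finite G]

theorem not_solvable (N : Subgroup G) [hN : N.Normal] (hmin : ∀ M : Subgroup G, M.Normal → M ≤ N → M = ⊥ ∨ M = N)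
    (hna : ¬ ∀ x ∈ N, ∀ y ∈ N, Commute x y) : ¬ Group.IsSolvable N := by
  intro hsol
  rcases hmin ⁅N, N⁆ inferInstance (commutator_le_left N N) with h | h
  · apply hna
    intro x hx y hy
    have h1 : ⁅x, y⁆ ∈ ⁅N, N⁆ := commutator_mem_commutator hx hy
    rw [h, mem_bot, commutatorElement_eq_one_iff_mul_comm] at h1
    exact h1
  · have h1 := subsingleton_of_solvable (perfect_of_commutator_eq h) hsol
    apply hna
    intro x hx y hy
    have h2 : (⟨x, hx⟩ : N) = ⟨y, hy⟩ := Subsingleton.elim _ _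
    have h3 : x = y := congrArg Subtype.val h2
    rw [h3]

theorem two_dvd (hFT : FT.{u}) (N K : Subgroup G) [hN : N.Normal]
    (hmin : ∀ M : Subgroup G, M.Normal → M ≤ N → M = ⊥ ∨ M = N)
    (hna : ¬ ∀ x ∈ N, ∀ y ∈ N, Commute x y) (hKN : K ⊓ N = ⊥) (hK : IsCoatom K)
    (hcore : ∀ M : Subgroup G, M.Normal → M ≤ K → M = ⊥)
    (hmax : ∀ X ≤ N, K ≤ normalizer (X : Set G) → X = ⊥ ∨ X = N) : 2 ∣ Nat.card K := by
  by_contra h2
  have hodd : Odd (Nat.card K) := by
    rw [← Nat.not_even_iff_odd, even_iff_two_dvd]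
    exact h2
  have hns := not_solvable N hmin hna
  have hKsol : Group.IsSolvable K := hFT K hodd
  have hKne : K ≠ ⊥ := by
    rintro rfl
    obtain ⟨x, hx, y, hy, hxy⟩ : ∃ x ∈ N, ∃ y ∈ N, ¬ Commute x y := by
      push Not at hna
      exact hna
    have hx1 : x ≠ 1 := by
      rintro rfl
      exact hxy (Commute.one_left y)
    have h3 : zpowers x = ⊤ := hK.2 _ (bot_lt_iff_ne_bot.2 (zpowers_ne_bot.2 hx1))
    have h4 : y ∈ zpowers x := by rw [h3]; trivial
    obtain ⟨k, rfl⟩ := h4
    exact hxy ((Commute.refl x).zpow_right k)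
  have hKnt : Nontrivial K := (Subgroup.nontrivial_iff_ne_bot K).2 hKne
  obtain ⟨r, R0, hr, hR0n, hR0p, -, hR0ne⟩ := Lib.SolvableNormalP.exists_normal_pSubgroup K
  have hrf := Fact.mk hr
  set R := R0.map K.subtype with hR
  have hRK : R ≤ K := map_subtype_le R0
  have hRp : IsPGroup r R := hR0p.map K.subtype
  have hRne : R ≠ ⊥ := by
    intro h
    apply hR0ne
    rw [hR, Subgroup.map_eq_bot_iff_of_injective _ K.subtype_injective] at h
    exact h
  have hKR : K ≤ normalizer (R : Set G) := by
    intro k hk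
    rw [mem_normalizer_iff]
    intro x
    constructor
    · rintro ⟨y, hy, rfl⟩
      exact ⟨⟨k, hk⟩ * y * ⟨k, hk⟩⁻¹, hR0n.conj_mem y hy ⟨k, hk⟩, rfl⟩
    · rintro ⟨y, hy, hyx⟩
      have h3 := hR0n.conj_mem y hy (⟨k, hk⟩⁻¹)
      refine ⟨_, h3, ?_⟩
      have h4 : (y : G) = k * x * k⁻¹ := hyx
      change k⁻¹ * (y : G) * k⁻¹⁻¹ = x
      rw [h4]
      group
  have hNR : normalizer (R : Set G) = K := by
    rcases hK.le_iff.1 hKR with h | h
    · exfalso
      apply hRne
      exact hcore R (normalizer_eq_top_iff.1 h) hRK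
    · exact h
  have hCN : ∀ c ∈ N, c ∈ centralizer (R : Set G) → c = 1 := by
    intro c hc hcR
    have h3 : c ∈ K ⊓ N := ⟨by rw [← hNR]; exact centralizer_le_normalizer _ hcR, hc⟩
    rw [hKN, mem_bot] at h3
    exact h3
  -- coprimality
  have hrN : ¬ r ∣ Nat.card N := by
    intro hd
    let act : MulAction R N := MulAction.compHom N ((MulAut.conjNormal (H := N)).comp R.subtype)
    have h3 : IsPGroup r R := hRp
    have h4 := h3.card_modEq_card_fixedPoints N
    have h5 : Nat.card (MulAction.fixedPoints R N) = 1 := by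
      rw [Nat.card_eq_one_iff_unique]
      refine ⟨⟨?_⟩, ⟨⟨1, fun g => ?_⟩⟩⟩
      · have key : ∀ n : MulAction.fixedPoints R N, (n : N) = 1 := by
          rintro ⟨n, hn⟩
          apply Subtype.ext
          apply hCN n n.2
          rw [mem_centralizer_iff]
          intro g hg
          have h6 : (MulAut.conjNormal g : MulAut N) n = n := hn ⟨g, hg⟩
          have h7 : g * (n : G) * g⁻¹ = n := by
            rw [← MulAut.conjNormal_apply, h6]
          rw [mul_inv_eq_iff_eq_mul] at h7
          exact h7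
        intro a b
        apply Subtype.ext
        rw [key a, key b]
      · change (MulAut.conjNormal (g : G) : MulAut N) 1 = 1
        exact map_one _
    rw [h5] at h4
    have h6 : Nat.card N ≡ 0 [MOD r] := (Nat.modEq_zero_iff_dvd).2 hd
    have h7 : 1 ≡ 0 [MOD r] := h4.symm.trans h6
    rw [Nat.modEq_zero_iff_dvd, Nat.dvd_one] at h7
    exact hr.one_lt.ne' h7
  have hcop : (Nat.card R).Coprime (Nat.card N) := by
    obtain ⟨a, ha⟩ := IsPGroup.iff_card.1 hRp
    rw [ha]
    exact Nat.Coprime.pow_left a ((Nat.Prime.coprime_iff_not_dvd hr).2 hrN)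
  have hRsol : Group.IsSolvable R := by
    have : Group.IsSolvable R0 := inferInstance
    exact Group.isSolvable_of_surjective (K.subtype.subgroupMap_surjective R0)
  have hf2 : Fact (Nat.Prime 2) := ⟨Nat.prime_two⟩
  have hnorm : R ≤ normalizer (N : Set G) := by
    rw [normalizer_eq_top]
    exact le_top
  obtain ⟨P, hP⟩ := Cfsg.Agent.S0023.result R N hnorm hcop (Or.inl hRsol) 2
  have hKP : K ≤ normalizer ((P : Subgroup N).map N.subtype : Set G) := by
    intro k hk
    set Q : Sylow 2 N := (MulAut.conjNormal k : MulAut N) • P with hQ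
    have hQc : (Q : Subgroup N).map N.subtype = ((P : Subgroup N).map N.subtype).map (MulAut.conj k).toMonoidHom := by
      ext x
      constructor
      · rintro ⟨_, ⟨y, hy, rfl⟩, rfl⟩
        exact ⟨y, ⟨y, hy, rfl⟩, (MulAut.conjNormal_apply k y).symm⟩
      · rintro ⟨_, ⟨y, hy, rfl⟩, rfl⟩
        exact ⟨MulAut.conjNormal k y, ⟨y, hy, rfl⟩, MulAut.conjNormal_apply k y⟩
    have hQR : R ≤ normalizer ((Q : Subgroup N).map N.subtype : Set G) := by
      intro x hx
      rw [hQc]
      have h3 : k⁻¹ * x * k ∈ R := by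
        have h4 := (mem_normalizer_iff''.1 (hKR hk) x).1 hx
        exact h4
      have h4 := hP h3
      rw [mem_normalizer_iff] at h4 ⊢
      intro y
      constructor
      · rintro ⟨z, hz, rfl⟩
        refine ⟨_, (h4 z).1 hz, ?_⟩
        change k * (k⁻¹ * x * k * z * (k⁻¹ * x * k)⁻¹) * k⁻¹ = x * (k * z * k⁻¹) * x⁻¹
        group
      · rintro ⟨z, hz, hzy⟩
        have hzy' : k * z * k⁻¹ = x * y * x⁻¹ := hzy
        refine ⟨k⁻¹ * y * k, ?_, ?_⟩
        · apply (h4 _).2
          have h5 : k⁻¹ * x * k * (k⁻¹ * y * k) * (k⁻¹ * x * k)⁻¹ = z := by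
            calc k⁻¹ * x * k * (k⁻¹ * y * k) * (k⁻¹ * x * k)⁻¹ = k⁻¹ * (x * y * x⁻¹) * k := by group
              _ = z := by rw [← hzy']; group
          rw [h5]
          exact hz
        · change k * (k⁻¹ * y * k) * k⁻¹ = y
          group
    obtain ⟨c, hcR, hcP⟩ := Cfsg.Agent.S0024.result R N hnorm hcop (Or.inl hRsol) 2 P Q hP hQR
    have h3 : c = 1 := Subtype.ext (hCN c c.2 hcR)
    rw [h3, map_one, one_smul] at hcP
    rw [mem_normalizer_iff_map_conj_eq]
    rw [← hcP] at hQc
    exact hQc.symm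
  rcases hmax _ (map_subtype_le _) hKP with h | h
  · rw [Subgroup.map_eq_bot_iff_of_injective _ N.subtype_injective] at h
    have h3 := P.card_eq_multiplicity
    rw [h, Subgroup.card_bot] at h3
    have h4 : ¬ 2 ∣ Nat.card N := by
      intro hd
      have h5 : 0 < (Nat.card N).factorization 2 := Nat.Prime.factorization_pos_of_dvd Nat.prime_two Nat.card_pos.ne' hd
      have h6 : 1 < 2 ^ (Nat.card N).factorization 2 := Nat.one_lt_pow h5.ne' (by norm_num)
      omega
    apply hns
    apply hFT N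
    rw [← Nat.not_even_iff_odd, even_iff_two_dvd]
    exact h4
  · apply hns
    have h3 : (P : Subgroup N) = ⊤ := by
      apply map_injective N.subtype_injective
      rw [h, ← MonoidHom.range_eq_map, range_subtype]
    have h4 : IsPGroup 2 N := by
      have h5 := P.isPGroup'
      rw [h3] at h5
      exact h5.of_surjective (topEquiv (G := N)).toMonoidHom (topEquiv (G := N)).surjective
    have : Group.IsNilpotent N := h4.isNilpotent
    infer_instance

end Cfsg.Agent.H892.PrimD
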