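import Mathlib
import Cfsg.Agent.H892.PrimC
import Cfsg.Agent.H892.PrimD

/-!
# Primitive groups: affine, almost simple, or an element with at least `n ^ (1/3)` fixed points
-/

set_option autoImplicit false

namespace Cfsg.Agent.H892.PrimE

open Subgroup MulAction Cfsg.Agent.H892.GroupB Cfsg.Agent.H892.PrimA Cfsg.Agent.H892.PrimB Cfsg.Agent.H892.PrimC

universe u v

section
variable {G : Type u} {Ω : Type v} [Group G] [MulAction G Ω] [FaithfulSMul G Ω]

theorem transitive_of_normal [hprim : IsPreprimitive G Ω] (N : Subgroup G) [N.Normal] (hN : N ≠ ⊥) : IsPretransitive N Ω := by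
  have hfix : fixedPoints N Ω ≠ Set.univ := by
    intro h
    apply hN
    rw [eq_bot_iff]
    intro x hx
    rw [Subgroup.mem_bot]
    apply FaithfulSMul.eq_of_smul_eq_smul (α := Ω)
    intro y
    have hy : y ∈ fixedPoints N Ω := by rw [h]; exact Set.mem_univ y
    rw [one_smul]
    exact hy ⟨x, hx⟩
  exact IsQuasiPreprimitive.isPretransitive_of_normal hfix

theorem core_bot [IsPretransitive G Ω] (ω : Ω) (M : Subgroup G) (hM : M.Normal) (h : M ≤ stabilizer G ω) : M = ⊥ := by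
  rw [eq_bot_iff]
  intro x hx
  rw [Subgroup.mem_bot]
  apply FaithfulSMul.eq_of_smul_eq_smul (α := Ω)
  intro y
  obtain ⟨g, rfl⟩ := exists_smul_eq G ω y
  have h1 : (g⁻¹ * x * g) • ω = ω := h (by
    have := hM.conj_mem x hx g⁻¹
    rwa [inv_inv] at this)
  rw [one_smul, ← mul_smul]
  rw [mul_smul, mul_smul, inv_smul_eq_iff] at h1
  rw [mul_smul]
  exact h1

theorem maximal [hprim : IsPreprimitive G Ω] [Nontrivial Ω] (ω : Ω) (N : Subgroup G) (X : Subgroup G) (hX : X ≤ N)
    (hKX : stabilizer G ω ⊓ N ≤ X) (hinv : stabilizer G ω ≤ normalizer (X : Set G)) :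
    X = stabilizer G ω ⊓ N ∨ X = N := by
  have hmax : IsCoatom (stabilizer G ω) := IsPreprimitive.isCoatom_stabilizer_of_isPreprimitive G ω
  rcases hmax.le_iff.mp (le_sup_left : stabilizer G ω ≤ stabilizer G ω ⊔ X) with h | h
  · right
    apply le_antisymm hX
    intro n hn
    have hn' : n ∈ ((stabilizer G ω ⊔ X : Subgroup G) : Set G) := by
      rw [h]; exact Set.mem_univ _
    rw [Subgroup.coe_mul_of_left_le_normalizer_right _ _ hinv] at hn'
    obtain ⟨k, hk, x, hx, rfl⟩ := hn'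
    have hkN : k ∈ N := by
      have := N.mul_mem hn (N.inv_mem (hX hx))
      simpa using this
    exact X.mul_mem (hKX ⟨hk, hkN⟩) hx
  · left
    apply le_antisymm _ hKX
    exact le_inf (by rw [← h]; exact le_sup_right) hX

theorem exists_min_normal [Finite G] [Nontrivial G] : ∃ N : Subgroup G, N.Normal ∧ N ≠ ⊥ ∧
    ∀ M : Subgroup G, M.Normal → M ≤ N → M = ⊥ ∨ M = N := by
  obtain ⟨N, ⟨hN, hNne⟩, hmin⟩ := WellFounded.has_min (wellFounded_lt (α := Subgroup G))
    {N | N.Normal ∧ N ≠ ⊥} ⟨⊤, inferInstance, top_ne_bot⟩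
  refine ⟨N, hN, hNne, fun M hM hMN => ?_⟩
  by_contra hcon
  push Not at hcon
  exact hmin M ⟨hM, hcon.1⟩ (lt_of_le_of_ne hMN hcon.2)

end

theorem main (hFT : FT.{u}) (hFT0 : FT.{0}) (hCB : CB.{u}) {G : Type u} {Ω : Type v} [Group G] [Finite G]
    [MulAction G Ω] [FaithfulSMul G Ω] [Finite Ω] [Nontrivial Ω] (hprim : IsPreprimitive G Ω) :
    (∃ N : Subgroup G, N.Normal ∧ N ≠ ⊥ ∧ IsMulCommutative N ∧ ∀ ω : Ω, stabilizer G ω ⊓ N = ⊥) ∨
    (∃ T : Subgroup G, T.Normal ∧ IsSimpleGroup T ∧ ¬ IsMulCommutative T ∧ centralizer (T : Set G) = ⊥) ∨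
    ∃ g : G, g ≠ 1 ∧ Nat.card Ω ≤ Nat.card (fixedBy Ω g) ^ 3 := by
  classical
  obtain ⟨ω⟩ : Nonempty Ω := inferInstance
  have hGnt : Nontrivial G := by
    obtain ⟨a, b, hab⟩ := exists_pair_ne Ω
    obtain ⟨g, hg⟩ := exists_smul_eq G a b
    refine ⟨g, 1, ?_⟩
    rintro rfl
    rw [one_smul] at hg
    exact hab hg
  obtain ⟨N, hN, hNne, hmin⟩ := exists_min_normal (G := G)
  have htr : IsPretransitive N Ω := transitive_of_normal N hNne
  have hsemi : ∀ C : Subgroup G, IsPretransitive C Ω → (∀ c ∈ C, ∀ n ∈ N, c * n = n * c) →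
      ∀ ω : Ω, stabilizer G ω ⊓ N = ⊥ := by
    intro C hC hcomm ω
    rw [eq_bot_iff]
    rintro n ⟨hn1, hn2⟩
    rw [Subgroup.mem_bot]
    apply FaithfulSMul.eq_of_smul_eq_smul (α := Ω)
    intro y
    obtain ⟨c, rfl⟩ := exists_smul_eq C ω y
    change n • ((c : G) • ω) = (1 : G) • ((c : G) • ω)
    rw [one_smul, ← mul_smul, ← hcomm c c.2 n hn2, mul_smul, mem_stabilizer_iff.1 hn1]
  by_cases hab : IsMulCommutative N
  · left
    refine ⟨N, hN, hNne, hab, hsemi N htr ?_⟩
    intro c hc n hn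
    have := hab.is_comm.comm (⟨c, hc⟩ : N) ⟨n, hn⟩
    exact congrArg Subtype.val this
  right
  have hna : ¬ ∀ x ∈ N, ∀ y ∈ N, Commute x y := by
    intro h
    exact hab ⟨⟨fun x y => Subtype.ext (h x x.2 y y.2)⟩⟩
  have hKN : ∀ g : G, ∃ n ∈ N, g * n ∈ stabilizer G ω := by
    intro g
    obtain ⟨n, hn⟩ := exists_smul_eq N ω (g⁻¹ • ω)
    refine ⟨n, n.2, ?_⟩
    rw [mem_stabilizer_iff, mul_smul]
    change g • (n • ω) = ω
    rw [hn, smul_inv_smul]
  have hNK : ¬ N ≤ stabilizer G ω := fun h => hNne (core_bot ω N hN h)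
  obtain ⟨T, hT, m, e, hTs, hTna, hm, hcase⟩ := PermutationGroups.OnanScott.onan_scott N hmin hna (stabilizer G ω) hKN hNK
    (fun X hX hKX hinv => maximal ω N X hX hKX hinv)
  have hTfin : Finite T := by
    have hfin : Finite (Fin m → T) := Finite.of_equiv N e.toEquiv
    refine Finite.of_surjective (fun f : Fin m → T => f ⟨0, hm⟩) ?_
    intro t
    exact ⟨fun _ => t, rfl⟩
  rcases hcase with ⟨L, hLtop, hL⟩ | ⟨k, c, hk, hc, hcK⟩
  · by_cases hLb : ∀ i, L i = ⊥
    · -- regular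
      right
      have hreg : stabilizer G ω ⊓ N = ⊥ := by
        rw [eq_bot_iff]
        rintro n ⟨hn1, hn2⟩
        have h1 := (hL ⟨n, hn2⟩).1 hn1
        have h2 : e ⟨n, hn2⟩ = 1 := by
          funext i
          have := h1 i
          rw [hLb i, Subgroup.mem_bot] at this
          exact this
        rw [EmbeddingLike.map_eq_one_iff] at h2
        rw [Subgroup.mem_bot]
        exact congrArg Subtype.val h2
      have h2 := PrimD.two_dvd hFT N (stabilizer G ω) hmin hna hreg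
        (IsPreprimitive.isCoatom_stabilizer_of_isPreprimitive G ω) (fun M hM h => core_bot ω M hM h)
        (fun X hX hinv => by
          have := maximal ω N X hX (by rw [hreg]; exact bot_le) hinv
          rwa [hreg] at this)
      have hf2 : Fact (Nat.Prime 2) := ⟨Nat.prime_two⟩
      obtain ⟨⟨h, hhK⟩, hh⟩ := exists_prime_orderOf_dvd_card' 2 h2
      rw [← Subgroup.orderOf_coe] at hh
      rw [inf_comm] at hreg
      exact regular hCB N hmin hna htr ω hreg hh hhK
    · push Not at hLb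
      obtain ⟨i0, hi0⟩ := hLb
      by_cases hm2 : 2 ≤ m
      · right
        exact caseOne e htr ω L hL hi0 hm2
      · left
        have hm1 : m = 1 := by omega
        subst hm1
        have e' : N ≃* T := e.trans (MulEquiv.funUnique (Fin 1) T)
        have hNs : IsSimpleGroup N := MulEquiv.isSimpleGroup e'
        refine ⟨N, hN, hNs, hab, ?_⟩
        by_contra hC
        have hCn : (centralizer (N : Set G)).Normal := inferInstance
        have hCt := transitive_of_normal (Ω := Ω) (centralizer (N : Set G)) hC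
        have h1 := hsemi _ hCt (fun c hc n hn => ((mem_centralizer_iff.1 hc) n hn).symm) ω
        apply hi0
        rw [eq_bot_iff]
        intro l hl
        have h2 : ((e.symm (fun _ => l) : N) : G) ∈ stabilizer G ω ⊓ N := by
          refine ⟨?_, (e.symm (fun _ => l)).2⟩
          change _ ∈ stabilizer G ω
          rw [hL, e.apply_symm_apply]
          intro i
          rw [Subsingleton.elim i i0]
          exact hl
        rw [h1, Subgroup.mem_bot] at h2
        have h3 : e.symm (fun _ => l) = 1 := Subtype.ext h2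
        have h4 : (fun _ => l : Fin 1 → T) = 1 := by
          rw [← e.apply_symm_apply (fun _ => l), h3, map_one]
        rw [Subgroup.mem_bot]
        exact congrFun h4 0
  · right
    have hTodd : ¬ Odd (Nat.card T) := by
      intro hodd
      have hs := hFT0 T hodd
      apply hTna
      exact ⟨⟨IsSimpleGroup.comm_iff_isSolvable.2 hs⟩⟩
    rw [Nat.not_odd_iff_even, even_iff_two_dvd] at hTodd
    have hf2 : Fact (Nat.Prime 2) := ⟨Nat.prime_two⟩
    obtain ⟨s, hs⟩ := exists_prime_orderOf_dvd_card' 2 hTodd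
    obtain ⟨t, ht, htc⟩ := exists_large_centralizer hs
    exact caseTwo e htr ω c hk hc hm hcK ht htc

theorem of_real {G : Type u} {Ω : Type v} [Group G] [MulAction G Ω] [Fintype Ω] {g : G}
    (h : Nat.card Ω ≤ Nat.card (fixedBy Ω g) ^ 3)
    (h' : (Nat.card (fixedBy Ω g) : ℝ) < (Fintype.card Ω : ℝ) ^ ((1 : ℝ) / 3)) : False := by
  rw [Nat.card_eq_fintype_card] at h
  have h1 : ((Fintype.card Ω : ℕ) : ℝ) ≤ (Nat.card (fixedBy Ω g) : ℝ) ^ 3 := by exact_mod_cast h
  have h2 : (Fintype.card Ω : ℝ) ^ ((1 : ℝ) / 3) ≤ ((Nat.card (fixedBy Ω g) : ℝ) ^ 3) ^ ((1 : ℝ) / 3) :=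
    Real.rpow_le_rpow (Nat.cast_nonneg _) h1 (by norm_num)
  have h3 : ((Nat.card (fixedBy Ω g) : ℝ) ^ 3) ^ ((1 : ℝ) / 3) = Nat.card (fixedBy Ω g) := by
    rw [← Real.rpow_natCast, ← Real.rpow_mul (Nat.cast_nonneg _)]
    norm_num
  rw [h3] at h2
  exact absurd h' (not_lt.2 h2)

theorem cb_of_real (h : ∀ (X : Type u) [Group X] [Finite X] [IsSimpleGroup X], ¬ IsMulCommutative X →
    ∀ α : MulAut X, orderOf α = 2 → (Nat.card X : ℝ) ^ ((1 : ℝ) / 3) < Nat.card {t : X // α t = t}) : CB.{u} := by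
  intro X _ _ _ hX α hα
  have h1 := h X hX α hα
  have h2 : ((Nat.card X : ℝ) ^ ((1 : ℝ) / 3)) ^ 3 = Nat.card X := by
    rw [← Real.rpow_natCast, ← Real.rpow_mul (Nat.cast_nonneg _)]
    norm_num
  have h3 : ((Nat.card X : ℝ) ^ ((1 : ℝ) / 3)) ^ 3 ≤ (Nat.card {t : X // α t = t} : ℝ) ^ 3 :=
    pow_le_pow_left₀ (Real.rpow_nonneg (Nat.cast_nonneg _) _) h1.le 3
  rw [h2] at h3
  exact_mod_cast h3

end Cfsg.Agent.H892.PrimE
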