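import Cfsg.Agent.H202.T.Defs

/-!
# S3537, exceptional groups: arithmetic

* `no_pyth`, `no_pyth'` : `q⁴ = U² + (U ± 1)²`, `U` a prime power;
* `two_pow` : `q⁴ + 1 = 2 (u⁴ + 1)`, `u` a power of 2;
* `not_big`, `not_mid` : numbers in certain intervals are not in the list `InL`.
-/

set_option autoImplicit false

namespace Cfsg.Agent.H892.TExc

open Cfsg.Agent.H202.T

theorem sq_ne_five {q : ℕ} (h : q ^ 2 = 5) : False := by
  have h1 : q < 3 := by
    by_contra hc
    have : 3 ^ 2 ≤ q ^ 2 := Nat.pow_le_pow_left (not_lt.1 hc) 2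
    omega
  interval_cases q <;> omega

/-- two powers `c < c + 2 e` of `l` with product a power of `l`, `l ∣ U`, `e = U ± 1` -/
theorem split {l n c e U : ℕ} (hl : l.Prime) (h1 : c * (c + 2 * e) = l ^ n) (he : 0 < e) (hlU : l ∣ U)
    (heU : e = U + 1 ∨ U = e + 1) : c = 1 ∨ c = 2 ∧ 2 ∣ U := by
  obtain ⟨a, -, ha⟩ := (Nat.dvd_prime_pow hl).1 (Dvd.intro _ h1)
  obtain ⟨b, -, hb⟩ := (Nat.dvd_prime_pow hl).1 (Dvd.intro_left _ h1)
  have hab : a < b := by
    by_contra hc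
    have : l ^ b ≤ l ^ a := Nat.pow_le_pow_right hl.pos (not_lt.1 hc)
    omega
  rcases Nat.eq_zero_or_pos a with h0 | h0
  · left
    rw [ha, h0, pow_zero]
  · right
    have hla : l ∣ c := by rw [ha]; exact dvd_pow_self l h0.ne'
    have hlb : l ∣ c + 2 * e := by rw [hb]; exact dvd_pow_self l (by omega)
    have h2 : l ∣ 2 * e := (Nat.dvd_add_right hla).1 hlb
    have hle : ¬ l ∣ e := by
      intro h3
      have h4 : l ∣ 1 := by
        rcases heU with h5 | h5
        · rw [h5] at h3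
          exact (Nat.dvd_add_right hlU).1 h3
        · rw [h5] at hlU
          exact (Nat.dvd_add_right h3).1 hlU
      exact hl.one_lt.ne' (Nat.dvd_one.1 h4)
    have hl2 : l = 2 := (Nat.prime_dvd_prime_iff_eq hl Nat.prime_two).1 ((hl.dvd_mul.1 h2).resolve_right hle)
    subst hl2
    refine ⟨?_, hlU⟩
    have ha1 : a = 1 := by
      by_contra hc
      have h4 : (4 : ℕ) ∣ c := by
        rw [ha]; exact pow_dvd_pow 2 (show 2 ≤ a by omega)
      have h5 : (4 : ℕ) ∣ c + 2 * e := by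
        rw [hb]; exact pow_dvd_pow 2 (show 2 ≤ b by omega)
      have h6 := (Nat.dvd_add_right h4).1 h5
      apply hle
      omega
    rw [ha, ha1, pow_one]

/-- `z² = U² + (U + 1)²` -/
theorem pyth {U z : ℕ} (hU : IsPrimePow U) (h : z ^ 2 = U ^ 2 + (U + 1) ^ 2) : z = 5 := by
  obtain ⟨l, k, hl, hk, rfl⟩ := hU
  have hl := hl.nat_prime
  have hlU : l ∣ l ^ k := dvd_pow_self l hk.ne'
  obtain ⟨U, hUd⟩ : ∃ U, U = l ^ k := ⟨_, rfl⟩
  rw [← hUd] at h hlU
  have hU2 : 2 ≤ U := hl.two_le.trans (Nat.le_of_dvd (by rw [hUd]; exact pow_pos hl.pos k) hlU)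
  have hz : U + 1 < z := by
    by_contra hc
    have : z ^ 2 ≤ (U + 1) ^ 2 := Nat.pow_le_pow_left (not_lt.1 hc) 2
    have : 0 < U ^ 2 := by positivity
    omega
  obtain ⟨c, rfl⟩ := Nat.exists_eq_add_of_le hz.le
  have h1 : c * (c + 2 * (U + 1)) = l ^ (k * 2) := by
    rw [pow_mul, ← hUd]; nlinarith
  rcases split hl h1 (by omega) hlU (Or.inl rfl) with hc | ⟨hc, h2U⟩
  · subst hc
    have h2 : U * U = 2 * U + 3 := by nlinarith
    have h3 : U ≤ 3 := by nlinarith
    interval_cases U <;> omega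
  · subst hc
    have h2 : U * U = 4 * U + 8 := by nlinarith
    have h3 : U ≤ 6 := by nlinarith
    interval_cases U <;> omega

/-- `z² = U² + (U - 1)²` -/
theorem pyth' {U z : ℕ} (hU : IsPrimePow U) (h : z ^ 2 + 2 * U = 2 * U ^ 2 + 1) : z = 5 := by
  obtain ⟨l, k, hl, hk, rfl⟩ := hU
  have hl := hl.nat_prime
  have hlU : l ∣ l ^ k := dvd_pow_self l hk.ne'
  obtain ⟨U, hUd⟩ : ∃ U, U = l ^ k := ⟨_, rfl⟩
  rw [← hUd] at h hlU
  have hU2 : 2 ≤ U := hl.two_le.trans (Nat.le_of_dvd (by rw [hUd]; exact pow_pos hl.pos k) hlU)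
  obtain ⟨e, rfl⟩ : ∃ e, U = e + 1 := ⟨U - 1, by omega⟩
  have hz : e < z := by
    by_contra hc
    have : z ^ 2 ≤ e ^ 2 := Nat.pow_le_pow_left (not_lt.1 hc) 2
    nlinarith
  obtain ⟨c, rfl⟩ := Nat.exists_eq_add_of_le hz.le
  have h1 : c * (c + 2 * e) = l ^ (k * 2) := by
    rw [pow_mul, ← hUd]; nlinarith
  rcases split hl h1 (by omega) hlU (Or.inr rfl) with hc | ⟨hc, h2U⟩
  · subst hc
    have h2 : e * e = 0 := by nlinarith
    have h3 : e = 0 := by nlinarith
    omega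
  · subst hc
    have h2 : e * e = 2 * e + 3 := by nlinarith
    have h3 : e ≤ 3 := by nlinarith
    interval_cases e <;> omega

theorem no_pyth {U q : ℕ} (hU : IsPrimePow U) (h : q ^ 4 = U ^ 2 + (U + 1) ^ 2) : False :=
  sq_ne_five (pyth hU (by rw [← pow_mul]; exact h))

theorem no_pyth' {U q : ℕ} (hU : IsPrimePow U) (h : q ^ 4 + 2 * U = 2 * U ^ 2 + 1) : False :=
  sq_ne_five (pyth' hU (by rw [← pow_mul]; exact h))

/-- `q⁴ = 2 u⁴ + 1`, `u` a power of 2 -/
theorem two_pow {u q : ℕ} (hu : IsPrimePow u) (h2 : 2 ∣ u) (h : q ^ 4 = 2 * u ^ 4 + 1) : False := by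
  obtain ⟨l, k, hl, hk, rfl⟩ := hu
  have hl := hl.nat_prime
  have hl2 : l = 2 := ((Nat.prime_dvd_prime_iff_eq Nat.prime_two hl).1 (Nat.prime_two.dvd_of_dvd_pow h2)).symm
  subst hl2
  have hq : Odd q := by
    by_contra hc
    obtain ⟨c, rfl⟩ := Nat.not_odd_iff_even.1 hc
    have : (c + c) ^ 4 = 2 * (8 * c ^ 4) := by ring
    omega
  obtain ⟨c, rfl⟩ := hq
  have e : 2 * (2 ^ k) ^ 4 = ((2 * c + 1) ^ 2 + 1) * ((2 * c + 1) ^ 2 - 1) := by
    have h3 : 1 ≤ (2 * c + 1) ^ 2 := Nat.one_le_pow _ _ (by omega)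
    obtain ⟨w, hw⟩ := Nat.exists_eq_add_of_le h3
    have h4 : (2 * c + 1) ^ 4 = ((2 * c + 1) ^ 2) ^ 2 := by ring
    rw [h4, hw] at h
    rw [hw, Nat.add_sub_cancel_left]
    nlinarith
  have h5 : 2 * c ^ 2 + 2 * c + 1 ∣ 2 ^ (1 + k * 4) := by
    have h6 : (2 : ℕ) ^ (1 + k * 4) = 2 * (2 ^ k) ^ 4 := by rw [pow_add, pow_mul, pow_one]
    rw [h6, e]
    refine Dvd.dvd.mul_right ⟨2, by ring⟩ _
  obtain ⟨j, -, hj⟩ := (Nat.dvd_prime_pow Nat.prime_two).1 h5
  rcases Nat.eq_zero_or_pos j with h0 | h0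
  · rw [h0, pow_zero] at hj
    have hc : c = 0 := by
      by_contra hc
      have : 0 < c := Nat.pos_of_ne_zero hc
      omega
    subst hc
    have : 0 < (2 ^ k) ^ 4 := by positivity
    omega
  · have h7 : 2 ∣ 2 * c ^ 2 + 2 * c + 1 := by rw [hj]; exact dvd_pow_self 2 h0.ne'
    omega

/-! ### Intervals -/

theorem lt_false {N M : ℕ} (h : N ∣ M) (h0 : 0 < M) (h1 : M < N) : False :=
  absurd (Nat.le_of_dvd h0 h) (not_le.2 h1)

theorem between {N M k : ℕ} (h : N ∣ M) (h0 : k * N < M) (h1 : M < (k + 1) * N) : False := by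
  obtain ⟨j, rfl⟩ := h
  have h2 : k < j := by
    by_contra hc
    have := Nat.mul_le_mul_left N (not_lt.1 hc)
    rw [mul_comm] at this
    have h3 : N * k = k * N := mul_comm _ _
    nlinarith
  have h3 : (k + 1) * N ≤ N * j := by
    rw [mul_comm N j]
    exact Nat.mul_le_mul_right N h2
  omega

/-- the data of `q` -/
structure PP (p q : ℕ) : Prop where
  prime : p.Prime
  ne_two : p ≠ 2
  pow : ∃ f, 1 ≤ f ∧ q = p ^ f

theorem PP.cases {p q : ℕ} (h : PP p q) : p = q ∨ 3 * p ≤ q := by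
  obtain ⟨f, hf, rfl⟩ := h.pow
  rcases Nat.eq_or_lt_of_le hf with h1 | h1
  · left; rw [← h1, pow_one]
  · right
    obtain ⟨e, rfl⟩ : ∃ e, f = e + 2 := ⟨f - 2, by omega⟩
    have h3 : 3 ≤ p := by
      have := h.prime.two_le
      have := h.ne_two
      omega
    have h4 : 1 ≤ p ^ e := Nat.one_le_pow _ _ (by omega)
    have e1 : p ^ (e + 2) = (p ^ e * p) * p := by ring
    rw [e1]
    refine Nat.mul_le_mul_right p ?_
    calc 3 ≤ p := h3
      _ = 1 * p := (one_mul p).symm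
      _ ≤ p ^ e * p := Nat.mul_le_mul_right p h4

theorem PP.odd {p q : ℕ} (h : PP p q) : Odd q := by
  obtain ⟨f, -, rfl⟩ := h.pow
  exact (h.prime.odd_of_ne_two h.ne_two).pow

theorem not_big {p q N : ℕ} (h : PP p q) (hq5 : 5 ≤ q) (h1 : q ^ 4 + q ^ 3 + q ^ 2 + q < 2 * N)
    (h2 : N + q < q ^ 4) : ¬ InL p q N := by
  have hp3 : 3 ≤ p := by
    have := h.prime.two_le
    have := h.ne_two
    omega
  obtain ⟨c, hc⟩ := h.odd
  have hpq := h.cases
  have hple : p ≤ q := by omega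
  have e1 : (q + 1) / 2 = c + 1 := by omega
  have e2 : (q - 1) / 2 = c := by omega
  have hc2 : 2 ≤ c := by omega
  have q2 : 5 * q ≤ q ^ 2 := by nlinarith
  have q3 : 5 * q ^ 2 ≤ q ^ 3 := by nlinarith [pow_succ q 2]
  have q4 : 5 * q ^ 3 ≤ q ^ 4 := by nlinarith [pow_succ q 3]
  have m3 : (q ^ 3 - 1) + 1 = q ^ 3 := by omega
  have m2 : (q ^ 2 - 1) + 1 = q ^ 2 := by omega
  obtain ⟨a3, ha3⟩ : ∃ a, a = q ^ 3 - 1 := ⟨_, rfl⟩
  obtain ⟨a2, ha2⟩ : ∃ a, a = q ^ 2 - 1 := ⟨_, rfl⟩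
  have k3 : a3 + 1 = q ^ 3 := by omega
  have k2 : a2 + 1 = q ^ 2 := by omega
  have eq2 : q * q = q ^ 2 := by ring
  have eq3 : q * q ^ 2 = q ^ 3 := by ring
  have eq4 : q * q ^ 3 = q ^ 4 := by ring
  rintro (h | h | h | h | h | h | h | h | h | ⟨h3, h | h⟩ | ⟨h3, h | h⟩ | ⟨h3, h⟩)
  · exact lt_false h (by unfold mm; omega) (by unfold mm; omega)
  · exact lt_false h (by omega) (by omega)
  · rw [e2] at h
    have : 2 * ((q ^ 3 + 1) * c) = (q ^ 3 + 1) * (2 * c) := by ring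
    have h5 : (q ^ 3 + 1) * (2 * c) + (q ^ 3 + 1) = q ^ 4 + q := by
      have : (q ^ 3 + 1) * (2 * c) + (q ^ 3 + 1) = (q ^ 3 + 1) * (2 * c + 1) := by ring
      rw [this, ← hc]; ring
    exact lt_false h (by positivity) (by omega)
  · rw [e1, ← ha3] at h
    have h6 : 2 * (a3 * (c + 1)) = a3 * (2 * c + 1) + a3 := by ring
    rw [← hc] at h6
    have h5 : a3 * q + q = q ^ 4 := by
      have : a3 * q + q = (a3 + 1) * q := by ring
      rw [this, k3]; ring
    exact lt_false h (Nat.mul_pos (by omega) (by omega)) (by omega)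
  · rcases hpq with h5 | h5
    · have h6 : p * (q ^ 3 + 1) = q ^ 4 + q := by rw [h5]; ring
      rw [h6] at h
      exact between (k := 1) h (by omega) (by omega)
    · have h6 : 3 * (p * (q ^ 3 + 1)) ≤ q ^ 4 + q := by
        calc 3 * (p * (q ^ 3 + 1)) = (3 * p) * (q ^ 3 + 1) := by ring
          _ ≤ q * (q ^ 3 + 1) := Nat.mul_le_mul_right _ h5
          _ = _ := by ring
      exact lt_false h (by positivity) (by omega)
  · rw [← ha3] at h
    rcases hpq with h5 | h5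
    · have h6 : p * a3 + q = q ^ 4 := by
        have : p * a3 + q = q * (a3 + 1) := by rw [h5]; ring
        rw [this, k3]; ring
      exact between (k := 1) h (by omega) (by omega)
    · have h6 : 3 * (p * a3) + q ≤ q ^ 4 := by
        calc 3 * (p * a3) + q = (3 * p) * a3 + q := by ring
          _ ≤ q * a3 + q := Nat.add_le_add_right (Nat.mul_le_mul_right _ h5) _
          _ = q * (a3 + 1) := by ring
          _ = _ := by rw [k3]; ring
      exact lt_false h (Nat.mul_pos (by omega) (by omega)) (by omega)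
  · rw [e1] at h
    have h6 : 2 * (p * ((q ^ 2 + 1) * (c + 1))) ≤ q ^ 4 + q ^ 3 + q ^ 2 + q := by
      calc 2 * (p * ((q ^ 2 + 1) * (c + 1))) = p * ((q ^ 2 + 1) * (2 * c + 1 + 1)) := by ring
        _ ≤ q * ((q ^ 2 + 1) * (2 * c + 1 + 1)) := Nat.mul_le_mul_right _ hple
        _ = _ := by rw [← hc]; ring
    exact lt_false h (by positivity) (by omega)
  · rw [e2] at h
    have h6 : 2 * (p * ((q ^ 2 + 1) * c)) ≤ q ^ 4 + q ^ 3 + q ^ 2 + q := by
      calc 2 * (p * ((q ^ 2 + 1) * c)) ≤ p * ((q ^ 2 + 1) * (2 * c + 1 + 1)) := by nlinarith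
        _ ≤ q * ((q ^ 2 + 1) * (2 * c + 1 + 1)) := Nat.mul_le_mul_right _ hple
        _ = _ := by rw [← hc]; ring
    exact lt_false h (by positivity) (by omega)
  · rw [← ha2] at h
    have h6 : p * a2 ≤ q ^ 3 := by
      calc p * a2 ≤ q * a2 := Nat.mul_le_mul_right _ hple
        _ ≤ q * q ^ 2 := Nat.mul_le_mul_left _ (by omega)
        _ = _ := eq3
    exact lt_false h (Nat.mul_pos (by omega) (by omega)) (by omega)
  · have h9 : 9 ≤ q := by omega
    have h10 : 9 * q ^ 2 ≤ q ^ 3 := by nlinarith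
    exact lt_false h (by positivity) (by omega)
  · have h9 : 9 ≤ q := by omega
    have h10 : 9 * q ^ 2 ≤ q ^ 3 := by nlinarith
    exact lt_false h (by omega) (by omega)
  · exact lt_false h (by omega) (by omega)
  · exact lt_false h (by omega) (by omega)
  · exact lt_false h (by omega) (by omega)

theorem not_mid {p q N : ℕ} (h : PP p q) (hq7 : 7 ≤ q) (h1 : q ^ 4 + q < 3 * N)
    (h2 : q ^ 4 + q ^ 3 + q ^ 2 + q < 4 * N) (h3 : 2 * N + q ^ 3 + 1 < q ^ 4 + q) : ¬ InL p q N := by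
  have hp3 : 3 ≤ p := by
    have := h.prime.two_le
    have := h.ne_two
    omega
  obtain ⟨c, hc⟩ := h.odd
  have hpq := h.cases
  have hple : p ≤ q := by omega
  have e1 : (q + 1) / 2 = c + 1 := by omega
  have e2 : (q - 1) / 2 = c := by omega
  have hc2 : 2 ≤ c := by omega
  have q2 : 7 * q ≤ q ^ 2 := by nlinarith
  have q3 : 7 * q ^ 2 ≤ q ^ 3 := by nlinarith [pow_succ q 2]
  have q4 : 7 * q ^ 3 ≤ q ^ 4 := by nlinarith [pow_succ q 3]
  obtain ⟨a3, ha3⟩ : ∃ a, a = q ^ 3 - 1 := ⟨_, rfl⟩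
  obtain ⟨a2, ha2⟩ : ∃ a, a = q ^ 2 - 1 := ⟨_, rfl⟩
  have k3 : a3 + 1 = q ^ 3 := by omega
  have k2 : a2 + 1 = q ^ 2 := by omega
  have eq3 : q * q ^ 2 = q ^ 3 := by ring
  rintro (h | h | h | h | h | h | h | h | h | ⟨h4, h | h⟩ | ⟨h4, h | h⟩ | ⟨h4, h⟩)
  · exact between (k := 1) h (by unfold mm; omega) (by unfold mm; omega)
  · exact between (k := 1) h (by omega) (by omega)
  · rw [e2] at h
    have : 2 * ((q ^ 3 + 1) * c) = (q ^ 3 + 1) * (2 * c) := by ring
    have h5 : (q ^ 3 + 1) * (2 * c) + (q ^ 3 + 1) = q ^ 4 + q := by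
      have : (q ^ 3 + 1) * (2 * c) + (q ^ 3 + 1) = (q ^ 3 + 1) * (2 * c + 1) := by ring
      rw [this, ← hc]; ring
    exact between (k := 1) h (by omega) (by omega)
  · rw [e1, ← ha3] at h
    have h6 : 2 * (a3 * (c + 1)) = a3 * (2 * c + 1) + a3 := by ring
    rw [← hc] at h6
    have h5 : a3 * q + q = q ^ 4 := by
      have : a3 * q + q = (a3 + 1) * q := by ring
      rw [this, k3]; ring
    exact between (k := 1) h (by omega) (by omega)
  · rcases hpq with h5 | h5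
    · have h6 : p * (q ^ 3 + 1) = q ^ 4 + q := by rw [h5]; ring
      rw [h6] at h
      exact between (k := 2) h (by omega) (by omega)
    · have h6 : 3 * (p * (q ^ 3 + 1)) ≤ q ^ 4 + q := by
        calc 3 * (p * (q ^ 3 + 1)) = (3 * p) * (q ^ 3 + 1) := by ring
          _ ≤ q * (q ^ 3 + 1) := Nat.mul_le_mul_right _ h5
          _ = _ := by ring
      exact lt_false h (by positivity) (by omega)
  · rw [← ha3] at h
    rcases hpq with h5 | h5
    · have h6 : p * a3 + q = q ^ 4 := by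
        have : p * a3 + q = q * (a3 + 1) := by rw [h5]; ring
        rw [this, k3]; ring
      exact between (k := 2) h (by omega) (by omega)
    · have h6 : 3 * (p * a3) + q ≤ q ^ 4 := by
        calc 3 * (p * a3) + q = (3 * p) * a3 + q := by ring
          _ ≤ q * a3 + q := Nat.add_le_add_right (Nat.mul_le_mul_right _ h5) _
          _ = q * (a3 + 1) := by ring
          _ = _ := by rw [k3]; ring
      exact lt_false h (Nat.mul_pos (by omega) (by omega)) (by omega)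
  · rw [e1] at h
    rcases hpq with h5 | h5
    · have h6 : 2 * (p * ((q ^ 2 + 1) * (c + 1))) = q ^ 4 + q ^ 3 + q ^ 2 + q := by
        calc 2 * (p * ((q ^ 2 + 1) * (c + 1))) = p * ((q ^ 2 + 1) * (2 * c + 1 + 1)) := by ring
          _ = _ := by rw [← hc, h5]; ring
      exact between (k := 1) h (by omega) (by omega)
    · have h6 : 6 * (p * ((q ^ 2 + 1) * (c + 1))) ≤ q ^ 4 + q ^ 3 + q ^ 2 + q := by
        calc 6 * (p * ((q ^ 2 + 1) * (c + 1))) = (3 * p) * ((q ^ 2 + 1) * (2 * c + 1 + 1)) := by ring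
          _ ≤ q * ((q ^ 2 + 1) * (2 * c + 1 + 1)) := Nat.mul_le_mul_right _ h5
          _ = _ := by rw [← hc]; ring
      exact lt_false h (by positivity) (by omega)
  · rw [e2] at h
    rcases hpq with h5 | h5
    · have h6 : 2 * (p * ((q ^ 2 + 1) * c)) + q ^ 3 + q = q ^ 4 + q ^ 2 := by
        calc 2 * (p * ((q ^ 2 + 1) * c)) + q ^ 3 + q = q * ((q ^ 2 + 1) * (2 * c + 1)) := by rw [h5]; ring
          _ = _ := by rw [← hc]; ring
      exact between (k := 1) h (by omega) (by omega)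
    · have h6 : 6 * (p * ((q ^ 2 + 1) * c)) ≤ q ^ 4 + q ^ 3 + q ^ 2 + q := by
        calc 6 * (p * ((q ^ 2 + 1) * c)) = (3 * p) * ((q ^ 2 + 1) * (2 * c)) := by ring
          _ ≤ q * ((q ^ 2 + 1) * (2 * c)) := Nat.mul_le_mul_right _ h5
          _ ≤ q * ((q ^ 2 + 1) * (2 * c + 1 + 1)) := Nat.mul_le_mul_left _ (Nat.mul_le_mul_left _ (by omega))
          _ = _ := by rw [← hc]; ring
      exact lt_false h (by positivity) (by omega)
  · rw [← ha2] at h
    have h6 : p * a2 ≤ q ^ 3 := by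
      calc p * a2 ≤ q * a2 := Nat.mul_le_mul_right _ hple
        _ ≤ q * q ^ 2 := Nat.mul_le_mul_left _ (by omega)
        _ = _ := eq3
    exact lt_false h (Nat.mul_pos (by omega) (by omega)) (by omega)
  · exact lt_false h (by positivity) (by omega)
  · exact lt_false h (by omega) (by omega)
  · exact lt_false h (by omega) (by omega)
  · exact lt_false h (by omega) (by omega)
  · exact lt_false h (by omega) (by omega)

end Cfsg.Agent.H892.TExc
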