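import Cfsg.Agent.H892.TNum

/-!
# S3537, `E₈(u)`: arithmetic

`e8_big`, `e8_mid` : the numbers `Φ₃₀(u)` and `Φ₁₅(u)` are not in the list if `mm q` is one of the others.
-/

set_option autoImplicit false

namespace Cfsg.Agent.H892.TExc

open Cfsg.Agent.H202.T

/-- fourth powers -/
theorem fourth {q K : ℕ} (j : ℕ) (h : q ^ 4 = K) (h1 : j ^ 4 < K) (h2 : K < (j + 1) ^ 4) : False := by
  rw [← h] at h1 h2
  have h3 := lt_of_pow_lt_pow_left₀ 4 (by omega) h1
  have h4 := lt_of_pow_lt_pow_left₀ 4 (by omega) h2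
  omega

def P15 (x : ℤ) : ℤ := 1 - x + x ^ 3 - x ^ 4 + x ^ 5 - x ^ 7 + x ^ 8
def P20 (x : ℤ) : ℤ := 1 - x ^ 2 + x ^ 4 - x ^ 6 + x ^ 8
def P24 (x : ℤ) : ℤ := 1 - x ^ 4 + x ^ 8
def P30 (x : ℤ) : ℤ := 1 + x - x ^ 3 - x ^ 4 - x ^ 5 + x ^ 7 + x ^ 8

theorem q_lt {x y : ℤ} (hx : 7 ≤ x) (h : y ^ 4 < 16 * x ^ 8) : y < 2 * x ^ 2 := by
  by_contra hc
  have h1 : (2 * x ^ 2) ^ 4 ≤ y ^ 4 := pow_le_pow_left₀ (by positivity) (not_lt.1 hc) 4
  have h2 : (2 * x ^ 2) ^ 4 = 16 * x ^ 8 := by ring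
  omega

theorem bnd {x : ℤ} (hx : 7 ≤ x) :
    2 * P30 x - (2 * P24 x - 1) > 8 * x ^ 6 + 4 * x ^ 4 + 2 * x ^ 2 ∧
    2 * P15 x - 1 - P30 x > 2 * x ^ 2 ∧ 3 * P15 x - (2 * P30 x - 1) > 2 * x ^ 2 ∧
    4 * P15 x - (2 * P30 x - 1) > 8 * x ^ 6 + 4 * x ^ 4 + 2 * x ^ 2 ∧
    (2 * P30 x - 1) - 2 * P15 x - 1 > 8 * x ^ 6 ∧ 2 * P30 x < 16 * x ^ 8 ∧ 2 * P24 x < 16 * x ^ 8 ∧
    P15 x ≤ P20 x ∧ P20 x ≤ P24 x ∧ 0 < P15 x := by
  obtain ⟨t, rfl⟩ : ∃ t : ℕ, x = (t : ℤ) + 7 := ⟨(x - 7).toNat, by omega⟩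
  unfold P15 P20 P24 P30
  refine ⟨?_, ?_, ?_, ?_, ?_, ?_, ?_, ?_, ?_, ?_⟩
  · rw [gt_iff_lt, ← sub_pos]; ring_nf; positivity
  · rw [gt_iff_lt, ← sub_pos]; ring_nf; positivity
  · rw [gt_iff_lt, ← sub_pos]; ring_nf; positivity
  · rw [gt_iff_lt, ← sub_pos]; ring_nf; positivity
  · rw [gt_iff_lt, ← sub_pos]; ring_nf; positivity
  · rw [← sub_pos]; ring_nf; positivity
  · rw [← sub_pos]; ring_nf; positivity
  · rw [← sub_nonneg]; ring_nf; positivity
  · rw [← sub_nonneg]; ring_nf; positivity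
  · ring_nf; positivity

/-- small `u` -/
theorem e8_small {q u : ℕ} (hu : 2 ≤ u) (hu6 : u ≤ 6)
    (h : (q : ℤ) ^ 4 = 2 * P15 u - 1 ∨ (q : ℤ) ^ 4 = 2 * P20 u - 1 ∨ (q : ℤ) ^ 4 = 2 * P24 u - 1 ∨
      (q : ℤ) ^ 4 = 2 * P30 u - 1) : False := by
  interval_cases u
  · rcases h with h | h | h | h
    · exact fourth (q := q) (K := 301) 4 (by unfold P15 at h; norm_num at h; exact_mod_cast h) (by norm_num) (by norm_num)
    · exact fourth (q := q) (K := 409) 4 (by unfold P20 at h; norm_num at h; exact_mod_cast h) (by norm_num) (by norm_num)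
    · exact fourth (q := q) (K := 481) 4 (by unfold P24 at h; norm_num at h; exact_mod_cast h) (by norm_num) (by norm_num)
    · exact fourth (q := q) (K := 661) 5 (by unfold P30 at h; norm_num at h; exact_mod_cast h) (by norm_num) (by norm_num)
  · rcases h with h | h | h | h
    · exact fourth (q := q) (K := 9121) 9 (by unfold P15 at h; norm_num at h; exact_mod_cast h) (by norm_num) (by norm_num)
    · exact fourth (q := q) (K := 11809) 10 (by unfold P20 at h; norm_num at h; exact_mod_cast h) (by norm_num) (by norm_num)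
    · exact fourth (q := q) (K := 12961) 10 (by unfold P24 at h; norm_num at h; exact_mod_cast h) (by norm_num) (by norm_num)
    · exact fourth (q := q) (K := 16801) 11 (by unfold P30 at h; norm_num at h; exact_mod_cast h) (by norm_num) (by norm_num)
  · rcases h with h | h | h | h
    · exact fourth (q := q) (K := 99961) 17 (by unfold P15 at h; norm_num at h; exact_mod_cast h) (by norm_num) (by norm_num)
    · exact fourth (q := q) (K := 123361) 18 (by unfold P20 at h; norm_num at h; exact_mod_cast h) (by norm_num) (by norm_num)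
    · exact fourth (q := q) (K := 130561) 19 (by unfold P24 at h; norm_num at h; exact_mod_cast h) (by norm_num) (by norm_num)
    · exact fourth (q := q) (K := 161161) 20 (by unfold P30 at h; norm_num at h; exact_mod_cast h) (by norm_num) (by norm_num)
  · rcases h with h | h | h | h
    · exact fourth (q := q) (K := 630241) 28 (by unfold P15 at h; norm_num at h; exact_mod_cast h) (by norm_num) (by norm_num)
    · exact fourth (q := q) (K := 751201) 29 (by unfold P20 at h; norm_num at h; exact_mod_cast h) (by norm_num) (by norm_num)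
    · exact fourth (q := q) (K := 780001) 29 (by unfold P24 at h; norm_num at h; exact_mod_cast h) (by norm_num) (by norm_num)
    · exact fourth (q := q) (K := 929761) 31 (by unfold P30 at h; norm_num at h; exact_mod_cast h) (by norm_num) (by norm_num)
  · rcases h with h | h | h | h
    · exact fourth (q := q) (K := 2812741) 40 (by unfold P15 at h; norm_num at h; exact_mod_cast h) (by norm_num) (by norm_num)
    · exact fourth (q := q) (K := 3268441) 42 (by unfold P20 at h; norm_num at h; exact_mod_cast h) (by norm_num) (by norm_num)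
    · exact fourth (q := q) (K := 3356641) 42 (by unfold P24 at h; norm_num at h; exact_mod_cast h) (by norm_num) (by norm_num)
    · exact fourth (q := q) (K := 3900541) 44 (by unfold P30 at h; norm_num at h; exact_mod_cast h) (by norm_num) (by norm_num)

theorem q_four {q : ℕ} (hq : Odd q) : (q : ℤ) ^ 4 = 2 * (mm q : ℤ) - 1 := by
  have := two_mm hq
  have h1 : ((2 * mm q : ℕ) : ℤ) = ((q ^ 4 + 1 : ℕ) : ℤ) := by rw [this]
  push_cast at h1
  linarith

theorem low {y x : ℤ} (h0 : 0 ≤ y) (h : y < 2 * x ^ 2) : y ^ 3 ≤ 8 * x ^ 6 ∧ y ^ 2 ≤ 4 * x ^ 4 := by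
  constructor
  · calc y ^ 3 ≤ (2 * x ^ 2) ^ 3 := pow_le_pow_left₀ h0 h.le 3
      _ = _ := by ring
  · calc y ^ 2 ≤ (2 * x ^ 2) ^ 2 := pow_le_pow_left₀ h0 h.le 2
      _ = _ := by ring

theorem big_core {x y m : ℤ} (hx : 7 ≤ x) (hy : 0 ≤ y) (hlo : P15 x ≤ m) (hhi : m ≤ P24 x) (hq4 : y ^ 4 = 2 * m - 1) :
    y ^ 4 + y ^ 3 + y ^ 2 + y < 2 * P30 x ∧ P30 x + y < y ^ 4 ∧ 4 ^ 4 < y ^ 4 := by
  obtain ⟨b1, b2, -, -, -, b6, b7, b8, b9, b10⟩ := bnd hx
  have hyx := q_lt hx (y := y) (by omega)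
  obtain ⟨c3, c2⟩ := low hy hyx
  have h5 : 7 ^ 6 ≤ x ^ 6 := pow_le_pow_left₀ (by norm_num) hx 6
  have h6 : 0 ≤ x ^ 4 := by positivity
  have h7 : 0 ≤ x ^ 2 := by positivity
  refine ⟨by omega, by omega, ?_⟩
  omega

theorem mid_core {x y : ℤ} (hx : 7 ≤ x) (hy : 0 ≤ y) (hq4 : y ^ 4 = 2 * P30 x - 1) :
    y ^ 4 + y < 3 * P15 x ∧ y ^ 4 + y ^ 3 + y ^ 2 + y < 4 * P15 x ∧ 2 * P15 x + y ^ 3 + 1 < y ^ 4 + y ∧
      6 ^ 4 < y ^ 4 := by
  obtain ⟨b1, b2, b3, b4, b5, b6, b7, b8, b9, b10⟩ := bnd hx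
  have hyx := q_lt hx (y := y) (by omega)
  obtain ⟨c3, c2⟩ := low hy hyx
  have h5 : 7 ^ 6 ≤ x ^ 6 := pow_le_pow_left₀ (by norm_num) hx 6
  have h6 : 0 ≤ x ^ 4 := by positivity
  have h7 : 0 ≤ x ^ 2 := by positivity
  refine ⟨by omega, by omega, by omega, ?_⟩
  omega

theorem e8_big {p q u N : ℕ} (h : PP p q) (hu : 2 ≤ u)
    (hm : (mm q : ℤ) = P15 u ∨ (mm q : ℤ) = P20 u ∨ (mm q : ℤ) = P24 u) (hN : (N : ℤ) = P30 u) : ¬ InL p q N := by
  have hq4 := q_four h.odd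
  by_cases hu6 : u ≤ 6
  · intro _
    rcases hm with hm | hm | hm <;> rw [hm] at hq4
    · exact e8_small hu hu6 (Or.inl hq4)
    · exact e8_small hu hu6 (Or.inr (Or.inl hq4))
    · exact e8_small hu hu6 (Or.inr (Or.inr (Or.inl hq4)))
  have hu7 : (7 : ℤ) ≤ u := by exact_mod_cast (by omega : 7 ≤ u)
  obtain ⟨-, -, -, -, -, -, -, b8, b9, -⟩ := bnd hu7
  obtain ⟨h1, h2, h3⟩ := big_core (y := (q : ℤ)) (m := (mm q : ℤ)) hu7 (by positivity)
    (by rcases hm with hm | hm | hm <;> rw [hm] <;> linarith)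
    (by rcases hm with hm | hm | hm <;> rw [hm] <;> linarith) hq4
  rw [← hN] at h1 h2
  refine not_big h ?_ (by exact_mod_cast h1) (by exact_mod_cast h2)
  have h4 : 4 ^ 4 < q ^ 4 := by exact_mod_cast h3
  exact lt_of_pow_lt_pow_left₀ 4 (by omega) h4

theorem e8_mid {p q u N : ℕ} (h : PP p q) (hu : 2 ≤ u)
    (hm : (mm q : ℤ) = P30 u) (hN : (N : ℤ) = P15 u) : ¬ InL p q N := by
  have hq4 := q_four h.odd
  rw [hm] at hq4
  by_cases hu6 : u ≤ 6
  · intro _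
    exact e8_small hu hu6 (Or.inr (Or.inr (Or.inr hq4)))
  have hu7 : (7 : ℤ) ≤ u := by exact_mod_cast (by omega : 7 ≤ u)
  obtain ⟨h1, h2, h3, h4⟩ := mid_core (y := (q : ℤ)) hu7 (by positivity) hq4
  rw [← hN] at h1 h2 h3
  refine not_mid h ?_ (by exact_mod_cast h1) (by exact_mod_cast h2) (by exact_mod_cast h3)
  have h5 : 6 ^ 4 < q ^ 4 := by exact_mod_cast h4
  exact lt_of_pow_lt_pow_left₀ 4 (by omega) h5

end Cfsg.Agent.H892.TExc
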